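import Mathlib
import Cfsg.Agent.H686.CharKit
import Cfsg.Agent.Characters.GaloisIrr
import Cfsg.Agent.Characters.Linear

/-!
# Groups whose nonlinear irreducible characters have distinct degrees: first properties

* `DD G`: distinct irreducible characters of degree greater than one have distinct degrees;
* `DD.quotient`: inherited by quotients;
* `DD.isConj_pow`, `DD.isConj_aut`: in a perfect such group every element is conjugate to its powers with
  exponent coprime to the group order and to its images under automorphisms;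
* `DD.vanish`: nonlinear irreducible characters vanish off the derived subgroup;
* `DD.card_centralizer`: `|C_G(g)| = |G : G'|` for `g ∉ G'`.
-/

set_option autoImplicit false

open scoped ComplexConjugate
open Cfsg Cfsg.Agent.Characters Cfsg.Agent.H686.CharKit Subgroup

namespace Cfsg.Agent.H689

universe u

/-- Distinct irreducible characters of degree greater than one have distinct degrees. -/
def DD (G : Type u) [Group G] : Prop :=
  ∀ χ ψ : IrrCharacter G, χ ≠ ψ → charDegree (χ : G → ℂ) ≠ 1 →
    charDegree (χ : G → ℂ) ≠ charDegree (ψ : G → ℂ)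

variable {G : Type u} [Group G]

theorem DD.eq_of (h : DD G) {χ ψ : IrrCharacter G} (h1 : (χ : G → ℂ) 1 ≠ 1)
    (hd : (χ : G → ℂ) 1 = (ψ : G → ℂ) 1) : χ = ψ := by
  by_contra hne
  refine h χ ψ hne ?_ ?_
  · rw [Ne, charDegree_eq_one_iff]; exact h1
  · have : (charDegree (χ : G → ℂ) : ℂ) = (charDegree (ψ : G → ℂ) : ℂ) := by
      rw [charDegree_irr, charDegree_irr, hd]
    exact_mod_cast this

theorem DD.of_eq (h : ∀ χ ψ : IrrCharacter G, (χ : G → ℂ) 1 ≠ 1 →
    (χ : G → ℂ) 1 = (ψ : G → ℂ) 1 → χ = ψ) : DD G := by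
  intro χ ψ hne h1 hd
  refine hne (h χ ψ ?_ ?_)
  · rw [Ne, ← charDegree_eq_one_iff]; exact h1
  · rw [← charDegree_irr, ← charDegree_irr, hd]

/-- Quotients inherit the property. -/
theorem DD.quotient [Finite G] (h : DD G) (N : Subgroup G) [N.Normal] : DD (G ⧸ N) := by
  refine DD.of_eq fun χ ψ h1 hd => ?_
  refine infl_injective N (h.eq_of ?_ ?_)
  · rw [infl_apply]; exact h1
  · rw [infl_apply, infl_apply]; exact hd

theorem DD.of_surjective {H : Type u} [Group H] [Finite G] (h : DD G) (f : G →* H)
    (hf : Function.Surjective f) : DD H := by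
  refine DD.of_eq fun χ ψ h1 hd => ?_
  have := h.eq_of (χ := ⟨(χ : H → ℂ) ∘ f, Core.isIrr_comp f hf χ.2⟩)
    (ψ := ⟨(ψ : H → ℂ) ∘ f, Core.isIrr_comp f hf ψ.2⟩) (by simpa using h1) (by simpa using hd)
  have h2 := congrArg Subtype.val this
  apply Subtype.ext
  funext x
  obtain ⟨g, rfl⟩ := hf x
  exact congrFun h2 g

/-- In a perfect group with the property every element is conjugate to its powers with exponent
coprime to the group order. -/
theorem DD.isConj_pow [Finite G] (h : DD G) (hp : commutator G = ⊤) {m : ℕ}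
    (hm : m.Coprime (Nat.card G)) (g : G) : IsConj g (g ^ m) := by
  refine GaloisIrr.isConj_of_forall_irr fun χ hχ => ?_
  by_cases h1 : χ 1 = 1
  · obtain ⟨f, hf⟩ := Linear.exists_hom_of_isIrrCharacter hχ h1
    have h2 : ∀ x : G, f x = 1 := by
      intro x
      have : commutator G ≤ f.ker := by
        rw [commutator_def, Subgroup.commutator_le]
        intro a _ b _
        rw [MonoidHom.mem_ker, map_commutatorElement]
        exact commutatorElement_eq_one_iff_mul_comm.2 (mul_comm _ _)
      rw [hp] at this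
      exact this (Subgroup.mem_top x)
    rw [hf]
    simp [h2]
  · have h2 := h.eq_of (χ := ⟨χ, hχ⟩) (ψ := ⟨fun g => χ (g ^ m), GaloisIrr.isIrr_pow hm hχ⟩) h1
      (by simp)
    exact congrFun (congrArg Subtype.val h2) g

/-- In a perfect group with the property every element is conjugate to its images under
automorphisms. -/
theorem DD.isConj_aut [Finite G] (h : DD G) (hp : commutator G = ⊤) (α : G ≃* G) (g : G) :
    IsConj g (α g) := by
  refine GaloisIrr.isConj_of_forall_irr fun χ hχ => ?_
  by_cases h1 : χ 1 = 1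
  · obtain ⟨f, hf⟩ := Linear.exists_hom_of_isIrrCharacter hχ h1
    have h2 : ∀ x : G, f x = 1 := by
      intro x
      have : commutator G ≤ f.ker := by
        rw [commutator_def, Subgroup.commutator_le]
        intro a _ b _
        rw [MonoidHom.mem_ker, map_commutatorElement]
        exact commutatorElement_eq_one_iff_mul_comm.2 (mul_comm _ _)
      rw [hp] at this
      exact this (Subgroup.mem_top x)
    rw [hf]
    simp [h2]
  · have h2 := h.eq_of (χ := ⟨χ, hχ⟩)
      (ψ := ⟨χ ∘ α.toMonoidHom, Core.isIrr_comp α.toMonoidHom α.surjective hχ⟩) h1 (by simp)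
    exact congrFun (congrArg Subtype.val h2) g

/-- Multiplying an irreducible character by a linear one. -/
theorem isIrr_mul_linear [Finite G] {χ : G → ℂ} (hχ : IsIrrCharacter G χ) (f : G →* ℂˣ) :
    IsIrrCharacter G (fun g => (f g : ℂ) * χ g) := by
  have := Fintype.ofFinite G
  have hc : IsCharacter G (fun g => (f g : ℂ) * χ g) :=
    Core.isCharacter_mul (Linear.isCharacter_hom f) (Core.isIrr_isCharacter hχ)
  rw [Core.isIrr_iff_classInner_self hc]
  have h1 := (Core.isIrr_iff_classInner_self (Core.isIrr_isCharacter hχ)).1 hχ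
  rw [Core.classInner_def] at h1 ⊢
  rw [← h1]
  congr 1
  refine Finset.sum_congr rfl fun g _ => ?_
  have h2 : (f g : ℂ) * conj (f g : ℂ) = 1 := by
    rw [Complex.mul_conj, Complex.normSq_eq_norm_sq, Linear.norm_hom_apply f g]
    norm_num
  rw [map_mul]
  calc (f g : ℂ) * χ g * (conj (f g : ℂ) * conj (χ g))
      = ((f g : ℂ) * conj (f g : ℂ)) * (χ g * conj (χ g)) := by ring
    _ = χ g * conj (χ g) := by rw [h2, one_mul]

/-- Separation of the cosets of the derived subgroup by linear characters. -/
theorem exists_hom_ne_one [Finite G] {g : G} (hg : g ∉ commutator G) :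
    ∃ f : G →* ℂˣ, f g ≠ 1 := by
  have h1 : (Abelianization.of g : Abelianization G) ≠ 1 := by
    intro h
    apply hg
    rwa [← Abelianization.ker_of, MonoidHom.mem_ker]
  have : Finite (Abelianization G) := inferInstance
  obtain ⟨φ, hφ⟩ := CommGroup.exists_apply_ne_one_of_hasEnoughRootsOfUnity (Abelianization G) ℂ h1
  exact ⟨φ.comp Abelianization.of, by simpa using hφ⟩

/-- Nonlinear irreducible characters vanish off the derived subgroup. -/
theorem DD.vanish [Finite G] (h : DD G) {χ : IrrCharacter G} (h1 : (χ : G → ℂ) 1 ≠ 1) {g : G}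
    (hg : g ∉ commutator G) : (χ : G → ℂ) g = 0 := by
  obtain ⟨f, hf⟩ := exists_hom_ne_one hg
  have h2 := h.eq_of (χ := χ) (ψ := ⟨_, isIrr_mul_linear χ.2 f⟩) h1 (by simp)
  have h3 : (χ : G → ℂ) g = (f g : ℂ) * (χ : G → ℂ) g := congrFun (congrArg Subtype.val h2) g
  by_contra h4
  apply hf
  have h5 : (f g : ℂ) = 1 := by
    have : ((f g : ℂ) - 1) * (χ : G → ℂ) g = 0 := by rw [sub_mul, ← h3]; ring
    rcases mul_eq_zero.1 this with h | h
    · exact sub_eq_zero.1 h
    · exact absurd h h4
  exact Units.ext h5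

/-- `|C_G(g)| = |G : G'|` for `g ∉ G'`. -/
theorem DD.card_centralizer [Finite G] (h : DD G) {g : G} (hg : g ∉ commutator G) :
    Nat.card (centralizer ({g} : Set G)) = (commutator G).index := by
  classical
  have := Fintype.ofFinite G
  have := Core.finite_irr (G := G)
  have := Fintype.ofFinite (IrrCharacter G)
  have h1 := sum_normSq (G := G) g
  have h2 : ∀ χ : IrrCharacter G, Complex.normSq ((χ : G → ℂ) g) =
      if (χ : G → ℂ) 1 = 1 then 1 else 0 := by
    intro χ
    split_ifs with h3
    · obtain ⟨f, hf⟩ := Linear.exists_hom_of_isIrrCharacter χ.2 h3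
      rw [hf, Complex.normSq_eq_norm_sq, Linear.norm_hom_apply f g]
      norm_num
    · rw [h.vanish h3 hg, map_zero]
  simp_rw [h2] at h1
  rw [Finset.sum_boole] at h1
  have h3 : (Finset.univ.filter fun χ : IrrCharacter G => (χ : G → ℂ) 1 = 1).card =
      (commutator G).index := by
    rw [← Linear.card_hom_eq_index_commutator G, Nat.card_congr (Linear.linearEquiv G),
      Nat.card_eq_fintype_card, Fintype.card_subtype]
  rw [h3] at h1
  exact_mod_cast h1.symm

/-- Elements of a normal subgroup lying in the kernel of some nonlinear irreducible character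
are in the derived subgroup. -/
theorem DD.le_commutator [Finite G] (h : DD G) (N : Subgroup G) [N.Normal]
    (hN : ¬ ∀ a b : G ⧸ N, a * b = b * a) : N ≤ commutator G := by
  intro n hn
  by_contra hc
  have h1 : ∃ χ : IrrCharacter (G ⧸ N), (χ : G ⧸ N → ℂ) 1 ≠ 1 := by
    by_contra hcon
    push Not at hcon
    apply hN
    intro a b
    have hab : a * b * (b * a)⁻¹ = 1 := by
      by_contra hne
      have : ¬ IsConj (a * b * (b * a)⁻¹) (1 : G ⧸ N) := fun hh => hne (isConj_one_left.1 hh)
      apply this
      refine GaloisIrr.isConj_of_forall_irr fun χ hχ => ?_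
      obtain ⟨f, hf⟩ := Linear.exists_hom_of_isIrrCharacter hχ (hcon ⟨χ, hχ⟩)
      rw [hf]
      have : f (a * b * (b * a)⁻¹) = 1 := by
        rw [map_mul, map_inv, map_mul, map_mul, mul_comm (f b) (f a), mul_inv_cancel]
      show ((f (a * b * (b * a)⁻¹) : ℂˣ) : ℂ) = ((f 1 : ℂˣ) : ℂ)
      rw [this, map_one]
    exact mul_inv_eq_one.1 hab
  obtain ⟨χ, hχ⟩ := h1
  have h2 : (infl N χ : G → ℂ) 1 ≠ 1 := by rw [infl_apply]; exact hχ
  have h3 := h.vanish h2 hc
  have h4 := le_chKer_infl N χ hn
  rw [mem_chKer] at h4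
  rw [h3] at h4
  exact Core.isIrr_apply_one_ne_zero (infl N χ).2 h4.symm

end Cfsg.Agent.H689
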