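import Mathlib
import Cfsg.Agent.H689.DD

/-!
# Universe-free consequences for perfect groups

* `Ratl S`: every element is conjugate to its powers with exponent coprime to the order of the group
  and to its images under automorphisms, and no generalized character of degree zero has norm two;
* `ORat n G`: elements `x` of order coprime to `n` are conjugate to `x ^ m` for all `m` coprime to the
  order of `x`. Inherited by quotients and (with a larger `n`) by centralizers.
-/

set_option autoImplicit false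
set_option linter.unusedSectionVars false

open scoped ComplexConjugate
open Cfsg Cfsg.Agent.Characters Cfsg.Agent.H686.CharKit Subgroup

namespace Cfsg.Agent.H689

universe u v

/-- Consequences of `DD` for perfect groups, in a form not depending on universes. -/
structure Ratl (S : Type u) [Group S] : Prop where
  pow : ∀ (g : S) (m : ℕ), m.Coprime (Nat.card S) → IsConj g (g ^ m)
  aut : ∀ (α : S ≃* S) (g : S), IsConj g (α g)
  gen : ∀ (θ : S → ℂ), IsGeneralizedCharacter S θ → θ 1 = 0 → ∀ [Fintype S], classInner θ θ ≠ 2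

theorem eq_one_of_perfect {G : Type u} [Group G] [Finite G] (hp : commutator G = ⊤) {χ : G → ℂ}
    (hχ : IsIrrCharacter G χ) (h1 : χ 1 = 1) : χ = 1 := by
  obtain ⟨f, hf⟩ := Linear.exists_hom_of_isIrrCharacter hχ h1
  have h2 : ∀ x : G, f x = 1 := by
    intro x
    have : commutator G ≤ f.ker := by
      rw [commutator_def, Subgroup.commutator_le]
      intro a _ b _
      rw [MonoidHom.mem_ker, map_commutatorElement]
      exact commutatorElement_eq_one_iff_mul_comm.2 (mul_comm _ _)
    rw [hp] at this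
    exact this (Subgroup.mem_top x)
  rw [hf]
  funext x
  simp [h2]

theorem DD.norm_ne_two {G : Type u} [Group G] [Finite G] (h : DD G) (hp : commutator G = ⊤)
    (θ : G → ℂ) (hθ : IsGeneralizedCharacter G θ) (h0 : θ 1 = 0) [Fintype G] :
    classInner θ θ ≠ 2 := by
  classical
  intro h2
  have := Core.finite_irr (G := G)
  have := Fintype.ofFinite (IrrCharacter G)
  obtain ⟨c, hc⟩ := Core.isGeneralizedCharacter_iff.1 hθ
  have hsum : ∑ χ : IrrCharacter G, c χ * c χ = 2 := by
    have h3 : classInner θ θ = ∑ χ : IrrCharacter G, ((c χ : ℂ) * (c χ : ℂ)) := by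
      rw [hc]
      have := Core.classInner_sum_smul_sum_smul (G := G) (fun χ => (c χ : ℂ)) (fun χ => (c χ : ℂ))
      simp only [Int.cast_smul_eq_zsmul] at this ⊢
      rw [this]
      refine Finset.sum_congr rfl fun χ _ => ?_
      rw [show (starRingEnd ℂ) (c χ : ℂ) = (c χ : ℂ) from by simp]
    rw [h3] at h2
    exact_mod_cast h2
  -- some coefficient is nonzero
  have hex : ∃ χ, c χ ≠ 0 := by
    by_contra hcon
    push Not at hcon
    rw [Finset.sum_eq_zero (fun χ _ => by rw [hcon χ, mul_zero])] at hsum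
    omega
  obtain ⟨χ, hχ⟩ := hex
  have hdeg : ∑ χ : IrrCharacter G, c χ * (charDegree (χ : G → ℂ) : ℤ) = 0 := by
    have h3 : θ 1 = ∑ χ : IrrCharacter G, (c χ : ℂ) * (χ : G → ℂ) 1 := by
      rw [hc, Finset.sum_apply]
      refine Finset.sum_congr rfl fun χ _ => ?_
      simp
    rw [h0] at h3
    have h4 : ((∑ χ : IrrCharacter G, c χ * (charDegree (χ : G → ℂ) : ℤ) : ℤ) : ℂ) = 0 := by
      push_cast
      rw [h3]
      refine Finset.sum_congr rfl fun χ _ => ?_
      rw [charDegree_irr]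
    exact_mod_cast h4
  have hex2 : ∃ ψ, ψ ≠ χ ∧ c ψ ≠ 0 := by
    by_contra hcon
    push Not at hcon
    rw [Finset.sum_eq_single χ (fun b _ hb => by rw [hcon b hb, zero_mul])
      (fun h => absurd (Finset.mem_univ χ) h)] at hdeg
    rcases mul_eq_zero.1 hdeg with h3 | h3
    · exact hχ h3
    · have := charDegree_pos χ
      omega
  obtain ⟨ψ, hne, hψ⟩ := hex2
  have hge : ∀ z : ℤ, z ≠ 0 → 1 ≤ z * z := by
    intro z hz
    have := mul_self_pos.2 hz
    omega
  have hsub : c ψ * c ψ + c χ * c χ ≤ 2 := by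
    rw [← hsum, ← Finset.sum_pair (f := fun χ => c χ * c χ) hne]
    exact Finset.sum_le_sum_of_subset_of_nonneg (Finset.subset_univ _)
      (fun i _ _ => mul_self_nonneg (c i))
  have h1 := hge _ hχ
  have h1' := hge _ hψ
  have hχ1 : c χ * c χ = 1 := by omega
  have hψ1 : c ψ * c ψ = 1 := by omega
  have hrest : ∀ φ, φ ≠ ψ → φ ≠ χ → c φ = 0 := by
    intro φ hφ1 hφ2
    by_contra hφ
    have h3 : c φ * c φ + (c ψ * c ψ + c χ * c χ) ≤ 2 := by
      rw [← hsum, ← Finset.sum_pair (f := fun χ => c χ * c χ) hne,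
        ← Finset.sum_insert (f := fun χ => c χ * c χ) (a := φ) (by
          rw [Finset.mem_insert, Finset.mem_singleton]; tauto)]
      exact Finset.sum_le_sum_of_subset_of_nonneg (Finset.subset_univ _)
        (fun i _ _ => mul_self_nonneg (c i))
    have h4 := hge _ hφ
    omega
  have hdeg2 : c ψ * (charDegree (ψ : G → ℂ) : ℤ) + c χ * (charDegree (χ : G → ℂ) : ℤ) = 0 := by
    rw [← hdeg, ← Finset.sum_pair (f := fun χ => c χ * (charDegree (χ : G → ℂ) : ℤ)) hne]
    refine Finset.sum_subset (Finset.subset_univ _) fun φ _ hφ => ?_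
    rw [Finset.mem_insert, Finset.mem_singleton, not_or] at hφ
    rw [hrest φ hφ.1 hφ.2, zero_mul]
  have hpχ := charDegree_pos χ
  have hpψ := charDegree_pos ψ
  have heq : charDegree (ψ : G → ℂ) = charDegree (χ : G → ℂ) := by
    have a1 : c χ = 1 ∨ c χ = -1 := by
      rcases mul_self_eq_one_iff.1 hχ1 with h | h
      · exact Or.inl h
      · exact Or.inr h
    have a2 : c ψ = 1 ∨ c ψ = -1 := by
      rcases mul_self_eq_one_iff.1 hψ1 with h | h
      · exact Or.inl h
      · exact Or.inr h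
    rcases a1 with a1 | a1 <;> rcases a2 with a2 | a2 <;> rw [a1, a2] at hdeg2 <;> omega
  by_cases hlin : charDegree (ψ : G → ℂ) = 1
  · apply hne
    have b1 := eq_one_of_perfect hp ψ.2 ((charDegree_eq_one_iff ψ).1 hlin)
    have b2 := eq_one_of_perfect hp χ.2 ((charDegree_eq_one_iff χ).1 (heq ▸ hlin))
    exact Subtype.ext (b1.trans b2.symm)
  · exact h ψ χ hne hlin heq

theorem DD.ratl {G : Type u} [Group G] [Finite G] (h : DD G) (hp : commutator G = ⊤) : Ratl G :=
  ⟨fun g _ hm => h.isConj_pow hp hm g, fun α g => h.isConj_aut hp α g,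
    fun θ hθ h0 _ => h.norm_ne_two hp θ hθ h0⟩

theorem isConj_map {G : Type u} {H : Type v} [Group G] [Group H] (f : G →* H) {a b : G}
    (h : IsConj a b) : IsConj (f a) (f b) := by
  obtain ⟨c, hc⟩ := isConj_iff.1 h
  exact isConj_iff.2 ⟨f c, by rw [← hc]; simp⟩

theorem isGen_comp {G : Type u} {H : Type v} [Group G] [Group H] (f : H →* G) {θ : G → ℂ}
    (h : IsGeneralizedCharacter G θ) : IsGeneralizedCharacter H (θ ∘ f) := by
  obtain ⟨χ, ψ, h1, h2, rfl⟩ := h
  exact ⟨_, _, Core.isCharacter_comp f h1, Core.isCharacter_comp f h2, rfl⟩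

theorem Ratl.of_equiv {S : Type u} {T : Type v} [Group S] [Group T] (h : Ratl S) (e : S ≃* T) :
    Ratl T := by
  refine ⟨?_, ?_, ?_⟩
  · intro g m hm
    have h1 := isConj_map e.toMonoidHom (h.pow (e.symm g) m (by
      rw [Nat.card_congr e.toEquiv]; exact hm))
    simpa using h1
  · intro α g
    have h1 := isConj_map e.toMonoidHom (h.aut ((e.trans α).trans e.symm) (e.symm g))
    simpa using h1
  · intro θ hθ h0 _ h2
    have hfin : Fintype S := Fintype.ofEquiv T e.symm.toEquiv
    refine h.gen (θ ∘ e) (isGen_comp e.toMonoidHom hθ) (by simpa using h0) ?_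
    rw [← h2]
    rw [Core.classInner_def, Core.classInner_def, Nat.card_congr e.toEquiv]
    congr 1
    exact Fintype.sum_equiv e.toEquiv _ _ (fun x => by simp)

/-- Elements of order coprime to `n` are conjugate to their coprime powers. -/
def ORat (n : ℕ) (G : Type u) [Group G] : Prop :=
  ∀ x : G, (orderOf x).Coprime n → ∀ m : ℕ, m.Coprime (orderOf x) → IsConj x (x ^ m)

/-- Coprime residues lift. -/
theorem exists_coprime_lift {m a N : ℕ} (hN : N ≠ 0) (ha : a ∣ N) (hm : m.Coprime a) :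
    ∃ m' : ℕ, m'.Coprime N ∧ m' ≡ m [MOD a] := by
  have : NeZero N := ⟨hN⟩
  have hunit : IsUnit (m : ZMod a) := (ZMod.isUnit_iff_coprime m a).2 hm
  obtain ⟨u, hu⟩ := hunit
  obtain ⟨w, hw⟩ := ZMod.unitsMap_surjective ha u
  refine ⟨(w : ZMod N).val, ZMod.val_coe_unit_coprime w, ?_⟩
  rw [← ZMod.natCast_eq_natCast_iff, ← hu, ← hw, ZMod.unitsMap_val]
  rw [ZMod.natCast_val]

theorem Ratl.orat {S : Type u} [Group S] [Finite S] (h : Ratl S) (n : ℕ) : ORat n S := by
  intro x _ m hm
  obtain ⟨m', h1, h2⟩ := exists_coprime_lift (N := Nat.card S) Nat.card_pos.ne'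
    (orderOf_dvd_natCard x) hm
  have h3 := h.pow x m' h1
  rwa [pow_eq_pow_iff_modEq.2 h2] at h3

theorem ORat.mono {n n' : ℕ} {G : Type u} [Group G] (h : ORat n G) (hn : n ∣ n') : ORat n' G :=
  fun x hx m hm => h x (hx.coprime_dvd_right hn) m hm

theorem ORat.of_surjective {n : ℕ} {G : Type u} {H : Type v} [Group G] [Group H] [Finite G]
    (h : ORat n G) (f : G →* H) (hf : Function.Surjective f) : ORat n H := by
  intro y hy m hm
  obtain ⟨x₀, rfl⟩ := hf y
  -- a preimage of order coprime to `n`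
  obtain ⟨x, hx, hxn⟩ : ∃ x : G, f x = f x₀ ∧ (orderOf x).Coprime n := by
    have hpos : 0 < orderOf x₀ := orderOf_pos x₀
    by_cases hn : n = 0
    · subst hn
      rw [Nat.coprime_zero_right] at hy
      exact ⟨1, by rw [map_one, orderOf_eq_one_iff.1 hy], by simp⟩
    -- `orderOf x₀ = a * b` with `b` coprime to `n` and `a` dividing a power of `n`
    obtain ⟨k, hk⟩ : ∃ k, (orderOf x₀ / Nat.gcd (orderOf x₀) (n ^ k)).Coprime n ∧
        (orderOf (f x₀)).Coprime (n ^ k) := by
      refine ⟨orderOf x₀, ?_, hy.pow_right _⟩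
      by_contra hcon
      obtain ⟨p, hp, hp1, hp2⟩ := Nat.Prime.not_coprime_iff_dvd.1 hcon
      have hg : Nat.gcd (orderOf x₀) (n ^ orderOf x₀) ≠ 0 := Nat.gcd_ne_zero_left hpos.ne'
      set g := Nat.gcd (orderOf x₀) (n ^ orderOf x₀) with hgdef
      have h1 : p * g ∣ orderOf x₀ := by
        have := Nat.mul_dvd_mul_right hp1 g
        rwa [Nat.div_mul_cancel (Nat.gcd_dvd_left _ _)] at this
      have h2 : p ^ (orderOf x₀) ∣ n ^ (orderOf x₀) := pow_dvd_pow_of_dvd hp2 _
      -- the `p`-part of `g` is the `p`-part of `orderOf x₀`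
      have h3 : ordProj[p] (orderOf x₀) ∣ g := by
        refine Nat.dvd_gcd (Nat.ordProj_dvd _ _) ((pow_dvd_pow p ?_).trans h2)
        exact (Nat.factorization_lt p hpos.ne').le
      have h4 : p * ordProj[p] (orderOf x₀) ∣ orderOf x₀ := (Nat.mul_dvd_mul_left p h3).trans h1
      rw [← pow_succ'] at h4
      exact absurd h4 (Nat.pow_succ_factorization_not_dvd hpos.ne' hp)
    set a := Nat.gcd (orderOf x₀) (n ^ k) with ha
    set b := orderOf x₀ / a with hb
    have hab : a * b = orderOf x₀ := Nat.mul_div_cancel' (Nat.gcd_dvd_left _ _)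
    have hd1 : orderOf (f x₀) ∣ orderOf x₀ := orderOf_map_dvd f x₀
    have hcop : (orderOf (f x₀)).Coprime a := hk.2.coprime_dvd_right (Nat.gcd_dvd_right _ _)
    have hd2 : orderOf (f x₀) ∣ b := by
      rw [← hab] at hd1
      exact hcop.dvd_of_dvd_mul_left hd1
    have hcop2 : a.Coprime b := by
      have : (n ^ k).Coprime b := (hk.1.symm).pow_left k
      exact this.coprime_dvd_left (Nat.gcd_dvd_right _ _)
    obtain ⟨e, he1, he2⟩ := Nat.chineseRemainder hcop2 0 1
    refine ⟨x₀ ^ e, ?_, ?_⟩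
    · rw [map_pow]
      conv_rhs => rw [← pow_one (f x₀)]
      rw [pow_eq_pow_iff_modEq]
      exact he2.of_dvd hd2
    · have h5 : orderOf (x₀ ^ e) ∣ b := by
        apply orderOf_dvd_of_pow_eq_one
        rw [← pow_mul]
        have : a ∣ e := (Nat.modEq_zero_iff_dvd).1 he1
        obtain ⟨c, rfl⟩ := this
        rw [show a * c * b = orderOf x₀ * c by rw [← hab]; ring, pow_mul, pow_orderOf_eq_one,
          one_pow]
      exact hk.1.coprime_dvd_left h5
  rw [← hx] at hm ⊢
  obtain ⟨m', h1, h2⟩ := exists_coprime_lift (orderOf_pos x).ne' (orderOf_map_dvd f x) hm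
  have h3 := isConj_map f (h x hxn m' h1)
  rw [map_pow] at h3
  rwa [pow_eq_pow_iff_modEq.2 h2] at h3

theorem ORat.of_equiv {n : ℕ} {G : Type u} {H : Type v} [Group G] [Group H] [Finite G]
    (h : ORat n G) (e : G ≃* H) : ORat n H :=
  h.of_surjective e.toMonoidHom e.surjective

/-- Centralizers of elements of coprime order. -/
theorem ORat.centralizer {n : ℕ} {G : Type u} [Group G] [Finite G] (h : ORat n G) (u : G)
    (hu : (orderOf u).Coprime n) :
    ORat (n * orderOf u) (Subgroup.centralizer ({u} : Set G)) := by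
  rintro ⟨x, hx⟩ hxn m hm
  rw [Subgroup.orderOf_mk] at hxn hm
  have hxu : Commute u x := (mem_centralizer_singleton_iff.1 hx).symm
  have hx1 : (orderOf x).Coprime n := Nat.Coprime.coprime_mul_right_right hxn
  have hx2 : (orderOf u).Coprime (orderOf x) := (Nat.Coprime.coprime_mul_left_right hxn).symm
  obtain ⟨m', h1, h2⟩ := Nat.chineseRemainder hx2 1 m
  have ho : orderOf (u * x) = orderOf u * orderOf x := hxu.orderOf_mul_eq_mul_orderOf_of_coprime hx2
  have hcop : m'.Coprime (orderOf (u * x)) := by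
    rw [ho]
    refine Nat.Coprime.mul_right ?_ ?_
    · rw [Nat.coprime_iff_gcd_eq_one, h1.gcd_eq]; simp
    · rw [Nat.coprime_iff_gcd_eq_one, h2.gcd_eq]; exact hm
  have hn : (orderOf (u * x)).Coprime n := by rw [ho]; exact Nat.Coprime.mul_left hu hx1
  obtain ⟨g, hg⟩ := isConj_iff.1 (h (u * x) hn m' hcop)
  have hpow : (u * x) ^ m' = u * x ^ m := by
    rw [hxu.mul_pow]
    congr 1
    · conv_rhs => rw [← pow_one u]
      exact pow_eq_pow_iff_modEq.2 h1
    · exact pow_eq_pow_iff_modEq.2 h2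
  rw [hpow] at hg
  -- `u` and `x` as powers of `u * x`
  obtain ⟨a, ha1, ha2⟩ := Nat.chineseRemainder hx2 1 0
  obtain ⟨b, hb1, hb2⟩ := Nat.chineseRemainder hx2 0 1
  have hxu' : Commute u (x ^ m) := hxu.pow_right m
  have e1 : (u * x) ^ a = u := by
    rw [hxu.mul_pow, pow_eq_pow_iff_modEq.2 ha1, pow_eq_pow_iff_modEq.2 ha2, pow_one, pow_zero,
      mul_one]
  have e2 : (u * x ^ m) ^ a = u := by
    rw [hxu'.mul_pow, ← pow_mul, mul_comm m a, pow_mul, pow_eq_pow_iff_modEq.2 ha1,
      pow_eq_pow_iff_modEq.2 ha2, pow_one, pow_zero, one_pow, mul_one]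
  have e3 : (u * x) ^ b = x := by
    rw [hxu.mul_pow, pow_eq_pow_iff_modEq.2 hb1, pow_eq_pow_iff_modEq.2 hb2, pow_one, pow_zero,
      one_mul]
  have e4 : (u * x ^ m) ^ b = x ^ m := by
    rw [hxu'.mul_pow, ← pow_mul, mul_comm m b, pow_mul, pow_eq_pow_iff_modEq.2 hb1,
      pow_eq_pow_iff_modEq.2 hb2, pow_one, pow_zero, one_mul]
  have c1 : g * u * g⁻¹ = u := by
    have := congrArg (· ^ a) hg
    simp only [conj_pow, e1, e2] at this
    exact this
  have c2 : g * x * g⁻¹ = x ^ m := by
    have := congrArg (· ^ b) hg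
    simp only [conj_pow, e3, e4] at this
    exact this
  refine isConj_iff.2 ⟨⟨g, mem_centralizer_singleton_iff.2 (mul_inv_eq_iff_eq_mul.1 c1)⟩, ?_⟩
  exact Subtype.ext c2

end Cfsg.Agent.H689
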