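import Mathlib
import Cfsg.Agent.H689.TEight
import Cfsg.Agent.EvenType.ChevTwoTits
import Cfsg.Agent.OddHalf.Small.Mathieu
import Cfsg.Agent.OddHalf.Small.J3
import Cfsg.Agent.OddHalf.Small.Plug
import Cfsg.Agent.NotCT.Orders

/-!
# The Tits group, `M₁₁`, `M₂₂`, `M₂₃`, `J₃`
-/

set_option autoImplicit false
set_option linter.unusedSectionVars false

open Cfsg

namespace Cfsg.Agent.H689

universe u

theorem not_ratl_tits {G : Type u} [Group G] [Finite G] (h : Lie.IsoTits G) : ¬ Ratl G := by
  have hc := NotCT.Orders.tits h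
  exact not_ratl_of_charTwo (EvenType.ChevTwoTits.charTwo h) 13 11 9 225 (by norm_num) (by norm_num)
    (by rw [hc]; norm_num) (by decide +kernel) (by decide +kernel) (by decide) (by decide +kernel)

theorem not_ratl_m11 {G : Type u} [Group G] [Finite G] (h : Spor.IsoM11 G) : ¬ Ratl G := by
  have hc := NotCT.Orders.m11 h
  exact not_ratl_of_charTwo (OddHalf.Small.M11.charTwo_of_iso h) 11 4 3 9 (by norm_num)
    (by norm_num)
    (by rw [hc]; norm_num) (by decide +kernel) (by decide +kernel) (by decide) (by decide +kernel)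

theorem not_ratl_m22 {G : Type u} [Group G] [Finite G] (h : Spor.IsoM22 G) : ¬ Ratl G := by
  have hc := NotCT.Orders.m22 h
  exact not_ratl_of_charTwo (OddHalf.Small.Mathieu.m22 h) 11 7 6 63 (by norm_num)
    (by norm_num)
    (by rw [hc]; norm_num) (by decide +kernel) (by decide +kernel) (by decide) (by decide +kernel)

theorem not_ratl_m23 {G : Type u} [Group G] [Finite G] (h : Spor.IsoM23 G) : ¬ Ratl G := by
  have hc := NotCT.Orders.m23 h
  exact not_ratl_of_charTwo (OddHalf.Small.Mathieu.m23 h) 11 7 6 1449 (by norm_num)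
    (by norm_num)
    (by rw [hc]; norm_num) (by decide +kernel) (by decide +kernel) (by decide) (by decide +kernel)

theorem not_ratl_j3 {G : Type u} [Group G] [Finite G] (h : Spor.IsoJ3 G) : ¬ Ratl G := by
  have hc := NotCT.Orders.j3 h
  exact not_ratl_of_charTwo (OddHalf.Small.J3.j3 G h) 19 7 6 2295 (by norm_num)
    (by norm_num)
    (by rw [hc]; norm_num) (by decide +kernel) (by decide +kernel) (by decide) (by decide +kernel)

end Cfsg.Agent.H689
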