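import Mathlib
import Cfsg.Agent.H689.Arith
import Cfsg.Agent.H689.SporTwo
import Cfsg.Agent.H689.SporMT
import Cfsg.Agent.Th.Main475
import Cfsg.Agent.H859.BigNum
import Cfsg.Agent.H836.Main
import Cfsg.Agent.H839.SeventeenMain
import Cfsg.Agent.H843.N29

/-!
# `J₄`, `Fi₂₂`, `Fi₂₃`, `Fi₂₄'`, `Th`
-/

set_option autoImplicit false
set_option linter.unusedSectionVars false

open Cfsg Subgroup

namespace Cfsg.Agent.H689

universe u

theorem centralizer_zpowers_eq {G : Type*} [Group G] (x : G) :
    Subgroup.centralizer ((Subgroup.zpowers x : Subgroup G) : Set G) =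
      Subgroup.centralizer ({x} : Set G) := by
  ext g
  rw [Subgroup.mem_centralizer_iff, Subgroup.mem_centralizer_singleton_iff]
  constructor
  · intro h1
    exact (h1 x (Subgroup.mem_zpowers x)).symm
  · rintro h1 y ⟨i, rfl⟩
    exact ((show Commute x g from h1.symm).zpow_left i).eq

/-- Subgroups of prime order which are Sylow subgroups. -/
theorem card_centralizer_of_sylow {G : Type*} [Group G] [Finite G] {r : ℕ} (hr : r.Prime)
    (hd2 : ¬ r * r ∣ Nat.card G) {x y : G} (hx : orderOf x = r) (hy : orderOf y = r) :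
    Nat.card (Subgroup.centralizer ({x} : Set G)) =
      Nat.card (Subgroup.centralizer ({y} : Set G)) := by
  have : Fact r.Prime := ⟨hr⟩
  have hd : r ∣ Nat.card G := by rw [← hx]; exact orderOf_dvd_natCard x
  have hfac : (Nat.card G).factorization r = 1 := by
    have h1 : 1 ≤ (Nat.card G).factorization r :=
      (hr.dvd_iff_one_le_factorization Nat.card_pos.ne').1 hd
    have h2 : ¬ 2 ≤ (Nat.card G).factorization r := by
      intro h2
      apply hd2
      have := (hr.pow_dvd_iff_le_factorization Nat.card_pos.ne').2 h2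
      rwa [pow_two] at this
    omega
  let P : Sylow r G := Sylow.ofCard (Subgroup.zpowers x)
    (by rw [Nat.card_zpowers, hx, hfac, pow_one])
  let Q : Sylow r G := Sylow.ofCard (Subgroup.zpowers y)
    (by rw [Nat.card_zpowers, hy, hfac, pow_one])
  obtain ⟨g, hg⟩ := MulAction.exists_smul_eq G P Q
  have h1 : (Subgroup.zpowers x).map (MulAut.conj g).toMonoidHom = Subgroup.zpowers y := by
    have := congrArg (fun S : Sylow r G => (S : Subgroup G)) hg
    exact this
  rw [← centralizer_zpowers_eq, ← centralizer_zpowers_eq, ← h1]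
  have h2 : Subgroup.centralizer
      (((Subgroup.zpowers x).map (MulAut.conj g).toMonoidHom : Subgroup G) : Set G) =
      (Subgroup.centralizer ((Subgroup.zpowers x : Subgroup G) : Set G)).map
        (MulAut.conj g).toMonoidHom := by
    ext c
    constructor
    · intro hc
      refine ⟨g⁻¹ * c * g, ?_, ?_⟩
      · rw [SetLike.mem_coe, Subgroup.mem_centralizer_iff]
        intro z hz
        have h3 := Subgroup.mem_centralizer_iff.1 hc (g * z * g⁻¹) ⟨z, hz, rfl⟩
        have h4 : z = g⁻¹ * (g * z * g⁻¹) * g := by group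
        calc z * (g⁻¹ * c * g) = g⁻¹ * ((g * z * g⁻¹) * c) * g := by group
          _ = g⁻¹ * (c * (g * z * g⁻¹)) * g := by rw [h3]
          _ = (g⁻¹ * c * g) * z := by group
      · change g * (g⁻¹ * c * g) * g⁻¹ = c
        group
    · rintro ⟨c, hc, rfl⟩
      rw [Subgroup.mem_centralizer_iff]
      rintro _ ⟨z, hz, rfl⟩
      have h3 := Subgroup.mem_centralizer_iff.1 hc z hz
      change (g * z * g⁻¹) * (g * c * g⁻¹) = (g * c * g⁻¹) * (g * z * g⁻¹)
      calc (g * z * g⁻¹) * (g * c * g⁻¹) = g * (z * c) * g⁻¹ := by group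
        _ = g * (c * z) * g⁻¹ := by rw [h3]
        _ = _ := by group
  rw [h2]
  exact (Nat.card_congr ((Subgroup.centralizer ((Subgroup.zpowers x : Subgroup G) : Set G)).equivMapOfInjective
    (MulAut.conj g).toMonoidHom (MulAut.conj g).injective).toEquiv)

theorem not_ratl_th {G : Type u} [Group G] [Finite G] (h : Spor.IsoTh G) : ¬ Ratl G := by
  intro hR
  obtain ⟨e⟩ := h
  have : Finite Spor.Th := Finite.of_equiv _ e.toEquiv
  obtain ⟨z, hz, Q, hQn, _, _, ⟨f⟩⟩ := Th.Main475.main
  have h1 := (hR.of_equiv e).cent hz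
  exact alt9 ((h1.of_surjective (QuotientGroup.mk' Q) (QuotientGroup.mk'_surjective Q)).of_equiv f)

theorem not_ratl_j4 {G : Type u} [Group G] [Finite G] (h : Spor.IsoJ4 G) : ¬ Ratl G := by
  intro hR
  have hc := NotCT.Orders.j4 h
  obtain ⟨e⟩ := h
  have : Finite Spor.J4 := Finite.of_equiv _ e.toEquiv
  rw [Nat.card_congr e.toEquiv] at hc
  exact not_orat_of_normalizer (r := 43) (m := 43 * 14) (by norm_num) (Nat.coprime_one_right _)
    (by rw [hc]; norm_num) (by norm_num) (fun P hP => H859.BigNum.data43 hP)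
    ((hR.of_equiv e).orat 1)

theorem not_orat_fi22 {G : Type u} [Group G] [Finite G] (h : Spor.IsoFi22 G) : ¬ ORat 2 G := by
  have hc := NotCT.Orders.fi22 h
  obtain ⟨e⟩ := h
  refine not_orat_of_normalizer (r := 13) (m := 78) (by norm_num) (by norm_num)
    (by rw [hc]; norm_num) (by norm_num) (fun P hP => ?_)
  obtain ⟨h1, h2⟩ := (H836.Main.thirteen_concl e).2 P hP
  exact ⟨by rw [h2]; exact hP, h1⟩

theorem not_ratl_fi22 {G : Type u} [Group G] [Finite G] (h : Spor.IsoFi22 G) : ¬ Ratl G :=
  fun hR => not_orat_fi22 h (hR.orat 2)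

theorem not_ratl_fi23 {G : Type u} [Group G] [Finite G] (h : Spor.IsoFi23 G) : ¬ Ratl G := by
  intro hR
  have hc := NotCT.Orders.fi23 h
  obtain ⟨e⟩ := h
  have : Finite Spor.Fi23 := Finite.of_equiv _ e.toEquiv
  rw [Nat.card_congr e.toEquiv] at hc
  refine not_orat_of_normalizer (r := 23) (m := 23 * 11) (by norm_num) (Nat.coprime_one_right _)
    (by rw [hc]; norm_num) (by norm_num) (fun P hP => ?_) ((hR.of_equiv e).orat 1)
  obtain ⟨h1, h2⟩ := H839.Fi23.twentythree_main P hP
  exact ⟨by rw [h2]; exact hP, h1⟩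

theorem not_ratl_fi24 {G : Type u} [Group G] [Finite G] (h : Spor.IsoFi24' G) : ¬ Ratl G := by
  intro hR
  have hc := NotCT.Orders.fi24 h
  obtain ⟨e⟩ := h
  have hfin : Finite Spor.Fi24 := Cfsg.Agent.R08.FiTwentyFour.finite_Fi24
  have : Finite Spor.Fi24' := inferInstance
  rw [Nat.card_congr e.toEquiv] at hc
  have hc24 : Nat.card Spor.Fi24 = 2510411418381323442585600 := H843.Fi24N.card_Fi24
  refine not_orat_of_self (r := 29) (N := 1255205709190661721292800 / 29) (by norm_num)
    (Nat.coprime_one_right _) (by rw [hc]) (by norm_num) ?_ (by norm_num)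
    ((hR.of_equiv e).orat 1)
  intro x hx
  have hx' : orderOf (x : Spor.Fi24) = 29 := by rw [Subgroup.orderOf_coe]; exact hx
  have h1 := card_centralizer_of_sylow (r := 29) (by norm_num) (by rw [hc24]; norm_num) hx'
    H843.D29.order
  rw [← centralizer_zpowers_eq H843.D29.D.x, H843.D29.main.2] at h1
  have h2 : Nat.card (centralizer ({x} : Set Spor.Fi24')) ≤ 29 := by
    rw [← h1]
    refine Nat.card_le_card_of_injective
      (fun c : centralizer ({x} : Set Spor.Fi24') =>
        (⟨((c : Spor.Fi24') : Spor.Fi24), Subgroup.mem_centralizer_singleton_iff.2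
          (congrArg Subtype.val (Subgroup.mem_centralizer_singleton_iff.1 c.2))⟩ :
          centralizer ({(x : Spor.Fi24)} : Set Spor.Fi24))) ?_
    intro a b hab
    have h9 : ((a : Spor.Fi24') : Spor.Fi24) = ((b : Spor.Fi24') : Spor.Fi24) :=
      congrArg (fun t : centralizer ({(x : Spor.Fi24)} : Set Spor.Fi24) => (t : Spor.Fi24)) hab
    exact Subtype.ext (Subtype.ext h9)
  have h3 : 29 ∣ Nat.card (centralizer ({x} : Set Spor.Fi24')) := by
    have h4 : (x : Spor.Fi24') ∈ centralizer ({x} : Set Spor.Fi24') :=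
      Subgroup.mem_centralizer_singleton_iff.2 rfl
    have h5 := orderOf_dvd_natCard (⟨x, h4⟩ : centralizer ({x} : Set Spor.Fi24'))
    rwa [Subgroup.orderOf_mk, hx] at h5
  exact le_antisymm h2 (Nat.le_of_dvd Nat.card_pos h3)

end Cfsg.Agent.H689
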