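import Mathlib
import Cfsg.Agent.H689.TOne
import Cfsg.Agent.H689.Arith

/-!
# Centralizers of elements of large prime order in linear groups over finite fields
-/

set_option autoImplicit false
set_option linter.unusedSectionVars false

open Polynomial

namespace Cfsg.Agent.H689

universe u v

theorem sum_rootMultiplicity_le {K : Type*} [Field K] [DecidableEq K] (p : K[X])
    (S : Finset K) : ∑ μ ∈ S, p.rootMultiplicity μ ≤ p.natDegree := by
  classical
  have h1 : ∑ μ ∈ S, p.rootMultiplicity μ = ∑ μ ∈ S, (p.roots.filter (· ∈ S)).count μ := by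
    refine Finset.sum_congr rfl (fun μ hμ => ?_)
    rw [Multiset.count_filter_of_pos hμ, count_roots]
  rw [h1, Multiset.sum_count_eq_card (fun a ha => (Multiset.mem_filter.1 ha).2)]
  exact (Multiset.card_le_card (Multiset.filter_le _ _)).trans (card_roots' _)

section eig

variable {K V : Type*} [Field K] [AddCommGroup V] [Module K V] [FiniteDimensional K V]

theorem finrank_eigenspace_le_pow (f : Module.End K V) (m : ℕ) (P : V ≃ₗ[K] V)
    (hP : ∀ v, P (f v) = (f ^ m) (P v)) (μ : K) :
    Module.finrank K (f.eigenspace μ) ≤ Module.finrank K (f.eigenspace (μ ^ m)) := by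
  have h1 : ∀ v ∈ f.eigenspace μ, P.symm v ∈ f.eigenspace (μ ^ m) := by
    intro v hv
    rw [Module.End.mem_eigenspace_iff] at hv ⊢
    apply P.injective
    rw [hP, LinearEquiv.apply_symm_apply, map_smul, LinearEquiv.apply_symm_apply]
    clear hP
    induction m with
    | zero => simp
    | succ k ih =>
      rw [pow_succ, Module.End.mul_apply, hv, map_smul, ih, smul_smul, pow_succ, mul_comm]
  let g : f.eigenspace μ →ₗ[K] f.eigenspace (μ ^ m) :=
    (P.symm.toLinearMap.comp (f.eigenspace μ).subtype).codRestrict _ (fun v => h1 v v.2)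
  refine LinearMap.finrank_le_finrank_of_injective (f := g) ?_
  intro a b hab
  have h2 : P.symm (a : V) = P.symm (b : V) := congrArg Subtype.val hab
  exact Subtype.ext (P.symm.injective h2)

theorem finrank_eig (f : Module.End K V) {r : ℕ} (hr : r.Prime)
    (hP : ∀ m : ℕ, m.Coprime r → ∃ P : V ≃ₗ[K] V, ∀ v, P (f v) = (f ^ m) (P v))
    {ζ : K} (hζr : ζ ^ r = 1) (hζ1 : ζ ≠ 1) (hζ : 1 ≤ Module.finrank K (f.eigenspace ζ))
    (hd : Module.finrank K V < 2 * (r - 1)) :
    Module.finrank K (f.eigenspace ζ) ≤ 1 ∧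
      f.charpoly.rootMultiplicity 1 + (r - 1) ≤ Module.finrank K V := by
  classical
  have hFr : Fact r.Prime := ⟨hr⟩
  have hord : orderOf ζ = r := orderOf_eq_prime hζr hζ1
  have hprim : IsPrimitiveRoot ζ r := by rw [← hord]; exact IsPrimitiveRoot.orderOf ζ
  have hinj : Set.InjOn (fun m : ℕ => ζ ^ m) (Finset.Ico 1 r : Finset ℕ) := by
    intro a ha b hb hab
    rw [Finset.coe_Ico, Set.mem_Ico] at ha hb
    exact hprim.pow_inj ha.2 hb.2 hab
  have hge : ∀ m ∈ Finset.Ico 1 r, Module.finrank K (f.eigenspace ζ) ≤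
      f.charpoly.rootMultiplicity (ζ ^ m) := by
    intro m hm
    rw [Finset.mem_Ico] at hm
    obtain ⟨P, hP⟩ := hP m (Nat.coprime_of_lt_prime (by omega) hm.2 hr).symm
    exact (finrank_eigenspace_le_pow f m P hP ζ).trans (f.finrank_eigenspace_le _)
  have hsum : ∀ S : Finset K, ∑ μ ∈ S, f.charpoly.rootMultiplicity μ ≤ Module.finrank K V := by
    intro S
    refine (sum_rootMultiplicity_le _ S).trans ?_
    rw [LinearMap.charpoly_natDegree]
  have h1 : (r - 1) * Module.finrank K (f.eigenspace ζ) ≤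
      ∑ μ ∈ (Finset.Ico 1 r).image (fun m : ℕ => ζ ^ m), f.charpoly.rootMultiplicity μ := by
    rw [Finset.sum_image hinj]
    refine le_trans ?_ (Finset.sum_le_sum hge)
    rw [Finset.sum_const, Nat.card_Ico, smul_eq_mul]
  refine ⟨?_, ?_⟩
  · by_contra hlt
    push Not at hlt
    have h2 := h1.trans (hsum _)
    have h3 : (r - 1) * 2 ≤ (r - 1) * Module.finrank K (f.eigenspace ζ) :=
      Nat.mul_le_mul_left _ hlt
    omega
  · have hnot : (1 : K) ∉ (Finset.Ico 1 r).image (fun m : ℕ => ζ ^ m) := by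
      intro hmem
      obtain ⟨m, hm, hm1⟩ := Finset.mem_image.1 hmem
      rw [Finset.mem_Ico] at hm
      have := (hprim.pow_eq_one_iff_dvd m).1 hm1
      exact absurd (Nat.le_of_dvd (by omega) this) (by omega)
    have h2 := hsum (insert 1 ((Finset.Ico 1 r).image (fun m : ℕ => ζ ^ m)))
    rw [Finset.sum_insert hnot] at h2
    have h3 : r - 1 ≤ (r - 1) * Module.finrank K (f.eigenspace ζ) := Nat.le_mul_of_pos_right _ hζ
    omega

end eig

section frob

variable {F : Type*} [Field F] [Fintype F] {d : Type*} [Fintype d] [DecidableEq d]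

/-- The scalars by which commuting matrices act on an eigenvector. -/
theorem pow_mulVec_of_comm (A B : Matrix d d F) (hAB : A * B = B * A) (hB : IsUnit B.det)
    {K : Type*} [Field K] [Algebra F K] {r f : ℕ} (hrf : r ∣ Fintype.card F ^ f - 1)
    {ζ : K} (hζr : ζ ^ r = 1)
    (h1 : Module.finrank K (Module.End.eigenspace (Matrix.toLin' (A.map (algebraMap F K))) ζ) ≤ 1)
    {v : d → K} (hv : (A.map (algebraMap F K)).mulVec v = ζ • v) :
    ((B ^ (Fintype.card F ^ f - 1)).map (algebraMap F K)).mulVec v = v := by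
  classical
  set q := Fintype.card F with hq
  have hqpos : 0 < q := Fintype.card_pos
  have hqf : 0 < q ^ f := Nat.pow_pos hqpos
  rcases eq_or_ne v 0 with rfl | hv0
  · simp
  -- scalars
  have hdim : ∀ w : d → K, (A.map (algebraMap F K)).mulVec w = ζ • w → ∃ c : K, w = c • v := by
    intro w hw
    have hv' : v ∈ Module.End.eigenspace (Matrix.toLin' (A.map (algebraMap F K))) ζ := by
      rw [Module.End.mem_eigenspace_iff, Matrix.toLin'_apply]; exact hv
    have hw' : w ∈ Module.End.eigenspace (Matrix.toLin' (A.map (algebraMap F K))) ζ := by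
      rw [Module.End.mem_eigenspace_iff, Matrix.toLin'_apply]; exact hw
    obtain ⟨c, hc⟩ := (finrank_le_one_iff.1 h1)
    obtain ⟨a, ha⟩ := hc ⟨v, hv'⟩
    obtain ⟨b, hb⟩ := hc ⟨w, hw'⟩
    have ha' : a • (c : d → K) = v := congrArg Subtype.val ha
    have hb' : b • (c : d → K) = w := congrArg Subtype.val hb
    have ha0 : a ≠ 0 := by
      rintro rfl
      apply hv0
      rw [← ha', zero_smul]
    refine ⟨b * a⁻¹, ?_⟩
    rw [← ha', ← hb', smul_smul, mul_assoc, inv_mul_cancel₀ ha0, mul_one]
  have hBv : (A.map (algebraMap F K)).mulVec ((B.map (algebraMap F K)).mulVec v) =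
      ζ • (B.map (algebraMap F K)).mulVec v := by
    rw [Matrix.mulVec_mulVec, ← Matrix.map_mul, hAB, Matrix.map_mul, ← Matrix.mulVec_mulVec, hv,
      Matrix.mulVec_smul]
  obtain ⟨lam, hlam⟩ := hdim _ hBv
  -- the Frobenius map
  obtain ⟨p, hp⟩ := CharP.exists F
  have hpp : Fact p.Prime := ⟨CharP.char_is_prime F p⟩
  obtain ⟨s, -, hs⟩ := FiniteField.card F p
  have : CharP K p := charP_of_injective_algebraMap (algebraMap F K).injective p
  have : ExpChar K p := ExpChar.prime hpp.out
  let σ : K →+* K := iterateFrobenius K p (s * f)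
  have hσ : ∀ a : K, σ a = a ^ (q ^ f) := by
    intro a
    change iterateFrobenius K p (s * f) a = _
    rw [iterateFrobenius_def, hq, hs, pow_mul]
  have hσF : ∀ a : F, σ (algebraMap F K a) = algebraMap F K a := by
    intro a
    rw [hσ, ← map_pow, FiniteField.pow_card_pow]
  have hσM : ∀ (M : Matrix d d F) (w : d → K),
      (M.map (algebraMap F K)).mulVec (σ ∘ w) = σ ∘ ((M.map (algebraMap F K)).mulVec w) := by
    intro M w
    ext i
    simp only [Matrix.mulVec, dotProduct, Function.comp, map_sum, map_mul, Matrix.map_apply, hσF]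
  have hσs : ∀ (a : K) (w : d → K), σ ∘ (a • w) = σ a • (σ ∘ w) := by
    intro a w
    ext i
    simp
  have hζσ : σ ζ = ζ := by
    rw [hσ]
    obtain ⟨t, ht⟩ := hrf
    have : q ^ f = r * t + 1 := by omega
    rw [this, pow_succ, pow_mul, hζr, one_pow, one_mul]
  have h2 : (A.map (algebraMap F K)).mulVec (σ ∘ v) = ζ • (σ ∘ v) := by
    rw [hσM, hv, hσs, hζσ]
  obtain ⟨c, hc⟩ := hdim _ h2
  have hc0 : σ ∘ v ≠ 0 := by
    intro h0
    apply hv0
    ext i
    have := congrFun h0 i
    exact (map_eq_zero σ).1 this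
  have h3 : (B.map (algebraMap F K)).mulVec (σ ∘ v) = lam • (σ ∘ v) := by
    rw [hc, Matrix.mulVec_smul, hlam, smul_comm]
  have h4 : (B.map (algebraMap F K)).mulVec (σ ∘ v) = σ lam • (σ ∘ v) := by
    rw [hσM, hlam, hσs]
  have h5 : lam = σ lam := by
    have h6 : (lam - σ lam) • (σ ∘ v) = 0 := by rw [sub_smul, ← h3, ← h4, sub_self]
    rcases smul_eq_zero.1 h6 with h7 | h7
    · exact sub_eq_zero.1 h7
    · exact absurd h7 hc0
  have hlam0 : lam ≠ 0 := by
    rintro rfl
    rw [zero_smul] at hlam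
    apply hv0
    have hdet : IsUnit (B.map (algebraMap F K)).det := by
      have := hB.map (algebraMap F K)
      rwa [RingHom.map_det] at this
    have h8 := congrArg (((B.map (algebraMap F K))⁻¹).mulVec) hlam
    rwa [Matrix.mulVec_mulVec, Matrix.nonsing_inv_mul _ hdet, Matrix.one_mulVec,
      Matrix.mulVec_zero] at h8
  have h9 : lam ^ (q ^ f - 1) = 1 := by
    rw [hσ] at h5
    have h10 : lam ^ (q ^ f - 1) * lam = lam := by
      rw [← pow_succ, Nat.sub_add_cancel hqf, ← h5]
    exact mul_right_cancel₀ hlam0 (by rw [h10, one_mul])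
  have h11 : ∀ n : ℕ, ((B ^ n).map (algebraMap F K)).mulVec v = lam ^ n • v := by
    intro n
    induction n with
    | zero => simp
    | succ n ih =>
      rw [pow_succ, Matrix.map_mul, ← Matrix.mulVec_mulVec, hlam, Matrix.mulVec_smul, ih,
        smul_smul, pow_succ, mul_comm]
  rw [h11, h9, one_smul]

end frob

section split

variable {K : Type*} [Field K] {d : Type*} [Fintype d] [DecidableEq d]

theorem fix_of_eig (A C : Matrix d d K) {r : ℕ} (hr0 : (r : K) ≠ 0) (hA : A ^ r = 1)
    {ζ₀ : K} (hζ : IsPrimitiveRoot ζ₀ r)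
    (H : ∀ ζ : K, ζ ^ r = 1 → ζ ≠ 1 → ∀ v : d → K, A.mulVec v = ζ • v → C.mulVec v = v)
    (v : d → K) : C.mulVec (A.mulVec v - v) = A.mulVec v - v := by
  classical
  set w : d → K := A.mulVec v - v with hw
  have hr : r ≠ 0 := by rintro rfl; simp at hr0
  have hζ0 : ζ₀ ≠ 0 := hζ.ne_zero hr
  let e : ℕ → (d → K) := fun j => ∑ i ∈ Finset.range r, ((ζ₀ ^ j)⁻¹ ^ i) • (A ^ i).mulVec w
  have hAe : ∀ j, A.mulVec (e j) = (ζ₀ ^ j) • e j := by
    intro j
    have hμ0 : ζ₀ ^ j ≠ 0 := pow_ne_zero _ hζ0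
    have hμr : (ζ₀ ^ j)⁻¹ ^ r = 1 := by
      rw [inv_pow, ← pow_mul, mul_comm, pow_mul, hζ.pow_eq_one, one_pow, inv_one]
    let g : ℕ → (d → K) := fun i => ((ζ₀ ^ j)⁻¹ ^ i) • (A ^ i).mulVec w
    have h0 : g 0 = w := by simp [g]
    have h1 : g r = w := by
      change ((ζ₀ ^ j)⁻¹ ^ r) • (A ^ r).mulVec w = w
      rw [hμr, hA, Matrix.one_mulVec, one_smul]
    have h2 : ∑ i ∈ Finset.range r, g (i + 1) = ∑ i ∈ Finset.range r, g i := by
      have h3 := Finset.sum_range_succ' g r
      have h4 := Finset.sum_range_succ g r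
      rw [h4, h0, h1] at h3
      exact (add_right_cancel h3).symm
    change A.mulVec (∑ i ∈ Finset.range r, g i) = (ζ₀ ^ j) • ∑ i ∈ Finset.range r, g i
    rw [← h2, Finset.smul_sum, h2, Matrix.mulVec_sum]
    refine Finset.sum_congr rfl (fun i _ => ?_)
    change A.mulVec (((ζ₀ ^ j)⁻¹ ^ i) • (A ^ i).mulVec w) =
      (ζ₀ ^ j) • (((ζ₀ ^ j)⁻¹ ^ (i + 1)) • (A ^ (i + 1)).mulVec w)
    rw [Matrix.mulVec_smul, Matrix.mulVec_mulVec, ← pow_succ', smul_smul,
      pow_succ ((ζ₀ ^ j)⁻¹) i, mul_comm ((ζ₀ ^ j)⁻¹ ^ i), ← mul_assoc, mul_inv_cancel₀ hμ0,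
      one_mul]
  have he0 : e 0 = 0 := by
    have h1 : ∀ i, ((ζ₀ ^ 0)⁻¹ ^ i) • (A ^ i).mulVec w =
        (A ^ (i + 1)).mulVec v - (A ^ i).mulVec v := by
      intro i
      rw [pow_zero, inv_one, one_pow, one_smul, hw, Matrix.mulVec_sub, Matrix.mulVec_mulVec,
        ← pow_succ]
    change ∑ i ∈ Finset.range r, ((ζ₀ ^ 0)⁻¹ ^ i) • (A ^ i).mulVec w = 0
    rw [Finset.sum_congr rfl (fun i _ => h1 i),
      Finset.sum_range_sub (fun i => (A ^ i).mulVec v), hA, pow_zero, sub_self]
  have hsum : ∑ j ∈ Finset.range r, e j = (r : K) • w := by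
    change ∑ j ∈ Finset.range r, ∑ i ∈ Finset.range r,
      ((ζ₀ ^ j)⁻¹ ^ i) • (A ^ i).mulVec w = _
    rw [Finset.sum_comm]
    have h1 : ∀ i ∈ Finset.range r, ∑ j ∈ Finset.range r, ((ζ₀ ^ j)⁻¹ ^ i) • (A ^ i).mulVec w =
        if i = 0 then (r : K) • w else 0 := by
      intro i hi
      rw [← Finset.sum_smul]
      have h2 : ∀ j ∈ Finset.range r, (ζ₀ ^ j)⁻¹ ^ i = ((ζ₀⁻¹) ^ i) ^ j := by
        intro j _
        rw [inv_pow, inv_pow, inv_pow, ← pow_mul, ← pow_mul, mul_comm]
      rw [Finset.sum_congr rfl h2]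
      split_ifs with h3
      · subst h3
        simp
      · have h4 : (ζ₀⁻¹) ^ i ≠ 1 := hζ.inv.pow_ne_one_of_pos_of_lt h3 (Finset.mem_range.1 hi)
        have h5 : ((ζ₀⁻¹) ^ i) ^ r = 1 := by
          rw [← pow_mul, mul_comm, pow_mul, hζ.inv.pow_eq_one, one_pow]
        have h6 := mul_geom_sum ((ζ₀⁻¹) ^ i) r
        rw [h5, sub_self] at h6
        rcases mul_eq_zero.1 h6 with h7 | h7
        · exact absurd (sub_eq_zero.1 h7) h4
        · rw [h7, zero_smul]
    rw [Finset.sum_congr rfl h1, Finset.sum_ite_eq' (Finset.range r) 0,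
      if_pos (Finset.mem_range.2 (Nat.pos_of_ne_zero hr))]
  have hCe : ∀ j ∈ Finset.range r, C.mulVec (e j) = e j := by
    intro j hj
    rcases Nat.eq_zero_or_pos j with rfl | hj0
    · rw [he0, Matrix.mulVec_zero]
    · refine H (ζ₀ ^ j) ?_ ?_ (e j) (hAe j)
      · rw [← pow_mul, mul_comm, pow_mul, hζ.pow_eq_one, one_pow]
      · exact hζ.pow_ne_one_of_pos_of_lt hj0.ne' (Finset.mem_range.1 hj)
  have h1 : (r : K) • C.mulVec w = (r : K) • w := by
    rw [← Matrix.mulVec_smul, ← hsum, Matrix.mulVec_sum, Finset.sum_congr rfl hCe]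
  exact smul_right_injective _ hr0 h1

end split

section main

theorem card_fixed_le {F : Type*} [Field F] [Fintype F] {d : Type*} [Fintype d] [DecidableEq d]
    (A : Matrix d d F) {m : ℕ}
    (h : (A.map (algebraMap F (AlgebraicClosure F))).charpoly.rootMultiplicity 1 ≤ m) :
    Nat.card {v : d → F // A.mulVec v = v} ≤ Fintype.card F ^ m := by
  classical
  let f : Module.End F (d → F) := Matrix.toLin' A
  have h1 : Module.finrank F (f.eigenspace 1) ≤ m := by
    refine (f.finrank_eigenspace_le 1).trans (le_trans (le_of_eq ?_) h)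
    have h2 : f.charpoly = A.charpoly := Matrix.charpoly_toLin' A
    rw [h2, eq_rootMultiplicity_map (algebraMap F (AlgebraicClosure F)).injective, map_one,
      ← Matrix.charpoly_map]
  have e : {v : d → F // A.mulVec v = v} ≃ f.eigenspace 1 :=
    Equiv.subtypeEquivRight (fun v => by
      rw [Module.End.mem_eigenspace_iff, one_smul]
      rfl)
  rw [Nat.card_congr e, Module.natCard_eq_pow_finrank (K := F), Nat.card_eq_fintype_card]
  exact Nat.pow_le_pow_right Fintype.card_pos h1

theorem twist_main {F : Type*} [Field F] [Fintype F] {d : Type*} [Fintype d] [DecidableEq d]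
    (A : Matrix d d F) {r f : ℕ} (hr : r.Prime) (hrF : (r : F) ≠ 0) (hA : A ^ r = 1)
    (hA1 : A ≠ 1) (hd : Fintype.card d < 2 * (r - 1)) (hf : r ∣ Fintype.card F ^ f - 1)
    (hP : ∀ m : ℕ, m.Coprime r → ∃ P Q : Matrix d d F, P * Q = 1 ∧ P * A = A ^ m * P) :
    Nat.card {v : d → F // A.mulVec v = v} ≤ Fintype.card F ^ (Fintype.card d - (r - 1)) ∧
    ∀ B : Matrix d d F, IsUnit B.det → A * B = B * A → (∀ v, A.mulVec v = v → B.mulVec v = v) →
      B ^ (Fintype.card F ^ f - 1) = 1 := by
  classical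
  let K := AlgebraicClosure F
  let φ : Matrix d d F →+* Matrix d d K := (algebraMap F K).mapMatrix
  have hφ : Function.Injective φ := by
    intro a b hab
    ext i j
    exact (algebraMap F K).injective (congrFun (congrFun hab i) j)
  have hrK : (r : K) ≠ 0 := by
    intro h0
    apply hrF
    apply (algebraMap F K).injective
    rw [map_natCast, map_zero, h0]
  let g : Module.End K (d → K) := Matrix.toLin' (φ A)
  have hgpow : ∀ m : ℕ, g ^ m = Matrix.toLin' (φ (A ^ m)) := by
    intro m
    rw [map_pow]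
    exact (Matrix.toLin'_pow _ _).symm
  have hg : g ^ r = 1 := by
    rw [hgpow, hA, map_one]
    exact Matrix.toLin'_one
  have hg1 : g ≠ 1 := by
    intro h1
    apply hA1
    apply hφ
    apply Matrix.toLin'.injective
    rw [map_one]
    refine Eq.trans ?_ (Matrix.toLin'_one).symm
    exact h1
  have hPK : ∀ m : ℕ, m.Coprime r → ∃ P : (d → K) ≃ₗ[K] (d → K), ∀ v, P (g v) = (g ^ m) (P v) := by
    intro m hm
    obtain ⟨P, Q, hPQ, hPA⟩ := hP m hm
    have h1 : φ P * φ Q = 1 := by rw [← map_mul, hPQ, map_one]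
    have h2 : φ Q * φ P = 1 := by rw [← map_mul, mul_eq_one_comm.1 hPQ, map_one]
    refine ⟨Matrix.toLin'OfInv h2 h1, ?_⟩
    intro v
    rw [hgpow]
    change (φ P).mulVec ((φ A).mulVec v) = (φ (A ^ m)).mulVec ((φ P).mulVec v)
    rw [Matrix.mulVec_mulVec, Matrix.mulVec_mulVec, ← map_mul, ← map_mul, hPA]
  obtain ⟨ζ₁, hζ₁, hζ₁1⟩ := exists_eigenvalue_ne_one g hrK hg hg1
  have hfin1 : 1 ≤ Module.finrank K (g.eigenspace ζ₁) := by
    rw [Nat.one_le_iff_ne_zero, Ne, Submodule.finrank_eq_zero]
    exact hζ₁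
  have hpow_of : ∀ ζ : K, ∀ v : d → K, g v = ζ • v → ∀ m : ℕ, (g ^ m) v = ζ ^ m • v := by
    intro ζ v hv m
    induction m with
    | zero => simp
    | succ k ih => rw [pow_succ, Module.End.mul_apply, hv, map_smul, ih, smul_smul, pow_succ,
        mul_comm]
  have hζ₁r : ζ₁ ^ r = 1 := by
    obtain ⟨v, hv⟩ := hζ₁.exists_hasEigenvector
    have h1 := hpow_of ζ₁ v hv.apply_eq_smul r
    rw [hg] at h1
    have h2 : (ζ₁ ^ r - 1) • v = 0 := by
      rw [sub_smul, one_smul, ← h1]
      simp
    rcases smul_eq_zero.1 h2 with h3 | h3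
    · exact sub_eq_zero.1 h3
    · exact absurd h3 hv.2
  have hdK : Module.finrank K (d → K) < 2 * (r - 1) := by
    rw [Module.finrank_fintype_fun_eq_card]; exact hd
  have hmain := finrank_eig g hr hPK hζ₁r hζ₁1 hfin1 hdK
  refine ⟨?_, ?_⟩
  · refine card_fixed_le A ?_
    have h1 := hmain.2
    rw [Module.finrank_fintype_fun_eq_card] at h1
    have h2 : g.charpoly = (A.map (algebraMap F K)).charpoly := Matrix.charpoly_toLin' _
    rw [h2] at h1
    change (A.map (algebraMap F K)).charpoly.rootMultiplicity 1 ≤ _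
    omega
  · intro B hB hAB hfix
    have hrange : ∀ v : d → F, (B ^ (Fintype.card F ^ f - 1)).mulVec (A.mulVec v - v) =
        A.mulVec v - v := by
      intro v
      have hζ₀ : IsPrimitiveRoot ζ₁ r := by
        rw [← orderOf_eq_prime (hp := ⟨hr⟩) hζ₁r hζ₁1]; exact IsPrimitiveRoot.orderOf ζ₁
      have hAK : φ A ^ r = 1 := by rw [← map_pow, hA, map_one]
      have h1 := fix_of_eig (φ A) (φ (B ^ (Fintype.card F ^ f - 1))) hrK hAK hζ₀ (by
        intro ζ hζr hζ1 v hv
        refine pow_mulVec_of_comm A B hAB hB hf hζr ?_ hv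
        rcases Nat.eq_zero_or_pos (Module.finrank K (g.eigenspace ζ)) with h2 | h2
        · exact h2.le.trans (Nat.zero_le 1)
        · exact (finrank_eig g hr hPK hζr hζ1 h2 hdK).1) (algebraMap F K ∘ v)
      have hmv : ∀ (M : Matrix d d F) (w : d → F), (φ M).mulVec (algebraMap F K ∘ w) =
          algebraMap F K ∘ (M.mulVec w) := by
        intro M w
        ext i
        simp only [φ, Matrix.mulVec, dotProduct, Function.comp, map_sum, map_mul,
          RingHom.mapMatrix_apply, Matrix.map_apply]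
      have hsub : (algebraMap F K ∘ (A.mulVec v)) - (algebraMap F K ∘ v) =
          algebraMap F K ∘ (A.mulVec v - v) := by
        ext i
        simp
      rw [hmv, hsub, hmv] at h1
      ext i
      exact (algebraMap F K).injective (congrFun h1 i)
    -- decomposition
    have hall : ∀ v : d → F, (B ^ (Fintype.card F ^ f - 1)).mulVec v = v := by
      intro v
      -- r v = sum of A^i v plus an element of the range of A - 1
      have h1 : ∀ i : ℕ, (B ^ (Fintype.card F ^ f - 1)).mulVec ((A ^ i).mulVec v - v) =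
          (A ^ i).mulVec v - v := by
        intro i
        induction i with
        | zero => simp
        | succ i ih =>
          have h2 : (A ^ (i + 1)).mulVec v - v =
              (A.mulVec ((A ^ i).mulVec v) - (A ^ i).mulVec v) + ((A ^ i).mulVec v - v) := by
            rw [pow_succ', ← Matrix.mulVec_mulVec]
            abel
          rw [h2, Matrix.mulVec_add, ih, hrange]
      have hfixB : ∀ n : ℕ, ∀ w : d → F, A.mulVec w = w → (B ^ n).mulVec w = w := by
        intro n w hw
        induction n with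
        | zero => simp
        | succ n ih => rw [pow_succ, ← Matrix.mulVec_mulVec, hfix w hw, ih]
      let s : d → F := ∑ i ∈ Finset.range r, (A ^ i).mulVec v
      have hs : A.mulVec s = s := by
        have h3 := Finset.sum_range_succ' (fun i => (A ^ i).mulVec v) r
        have h4 := Finset.sum_range_succ (fun i => (A ^ i).mulVec v) r
        rw [h4, hA, pow_zero] at h3
        have h5 := add_right_cancel h3
        change A.mulVec (∑ i ∈ Finset.range r, (A ^ i).mulVec v) = s
        rw [Matrix.mulVec_sum]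
        refine Eq.trans (Finset.sum_congr rfl (fun i _ => ?_)) h5.symm
        rw [Matrix.mulVec_mulVec, ← pow_succ']
      have h6 : (r : F) • v = s - ∑ i ∈ Finset.range r, ((A ^ i).mulVec v - v) := by
        rw [Finset.sum_sub_distrib, Finset.sum_const, Finset.card_range, sub_sub_cancel,
          Nat.cast_smul_eq_nsmul]
      have h7 : (r : F) • (B ^ (Fintype.card F ^ f - 1)).mulVec v = (r : F) • v := by
        rw [← Matrix.mulVec_smul, h6, Matrix.mulVec_sub, hfixB _ s hs, Matrix.mulVec_sum,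
          Finset.sum_congr rfl (fun i _ => h1 i)]
      exact smul_right_injective _ hrF h7
    apply Matrix.toLin'.injective
    refine LinearMap.ext (fun v => ?_)
    rw [Matrix.toLin'_apply, hall, Matrix.toLin'_one]
    rfl

/-- The centralizer of an element of large prime order is small. -/
theorem card_centralizer_twist {G : Type u} [Group G] [Finite G] {F : Type*} [Field F]
    [Fintype F] {d : Type*} [Fintype d] [DecidableEq d] (ρ : G →* Matrix d d F)
    (hρ : Function.Injective ρ) {n r f : ℕ} (h : ORat n G) (hr : r.Prime) (hrn : r.Coprime n)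
    (hrF : (r : F) ≠ 0) (hd : Fintype.card d < 2 * (r - 1)) (hf : r ∣ Fintype.card F ^ f - 1)
    (hG : ∀ p : ℕ, p.Prime → p ∣ Fintype.card F ^ f - 1 → p ∣ Nat.card G → p = r)
    (hr2 : ¬ r ^ 2 ∣ Nat.card G) {x : G} (hx : orderOf x = r) :
    Nat.card (Subgroup.centralizer ({x} : Set G)) ≤
      r * (Fintype.card F ^ (Fintype.card d - (r - 1)) - 1).factorial := by
  classical
  have hxr : x ^ r = 1 := by rw [← hx]; exact pow_orderOf_eq_one x
  have hunit : ∀ g : G, IsUnit (ρ g).det := by
    intro g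
    refine IsUnit.of_mul_eq_one (ρ g⁻¹).det ?_
    rw [← Matrix.det_mul, ← map_mul, mul_inv_cancel, map_one, Matrix.det_one]
  have hmain := twist_main (ρ x) hr hrF (f := f) (by rw [← map_pow, hxr, map_one])
    (by
      intro h1
      have h2 : x = 1 := hρ (by rw [h1, map_one])
      rw [h2, orderOf_one] at hx
      exact hr.one_lt.ne hx) hd hf (by
      intro m hm
      obtain ⟨g, hg⟩ := isConj_iff.1 (h x (by rw [hx]; exact hrn) m (by rw [hx]; exact hm))
      refine ⟨ρ g, ρ g⁻¹, by rw [← map_mul, mul_inv_cancel, map_one], ?_⟩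
      rw [← map_pow, ← map_mul, ← map_mul, ← hg]
      congr 1
      group)
  set C := Subgroup.centralizer ({x} : Set G) with hC
  have hcomm : ∀ y : C, (y : G) * x = x * y := fun y =>
    Subgroup.mem_centralizer_singleton_iff.1 y.2
  let W := {v : d → F // (ρ x).mulVec v = v ∧ v ≠ 0}
  let _ : MulAction C W :=
    { smul := fun y v => ⟨(ρ (y : G)).mulVec v.1, by
        constructor
        · rw [Matrix.mulVec_mulVec, ← map_mul, ← hcomm, map_mul, ← Matrix.mulVec_mulVec, v.2.1]
        · intro h0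
          apply v.2.2
          have h1 : (ρ ((y : G)⁻¹ * y)).mulVec v.1 = 0 := by
            rw [map_mul, ← Matrix.mulVec_mulVec, h0, Matrix.mulVec_zero]
          rwa [inv_mul_cancel, map_one, Matrix.one_mulVec] at h1⟩
      one_smul := by
        intro v
        apply Subtype.ext
        change (ρ ((1 : C) : G)).mulVec v.1 = v.1
        rw [Subgroup.coe_one, map_one, Matrix.one_mulVec]
      mul_smul := by
        intro a b v
        apply Subtype.ext
        change (ρ ((a * b : C) : G)).mulVec v.1 = (ρ (a : G)).mulVec ((ρ (b : G)).mulVec v.1)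
        rw [Subgroup.coe_mul, map_mul, Matrix.mulVec_mulVec] }
  have hsmul : ∀ (y : C) (v : W), ((y • v : W) : d → F) = (ρ (y : G)).mulVec v.1 := fun _ _ => rfl
  let π : C →* Equiv.Perm W := MulAction.toPermHom C W
  have hkerpow : ∀ y ∈ π.ker, y ^ (Fintype.card F ^ f - 1) = 1 := by
    intro y hy
    have h1 : ∀ v, (ρ x).mulVec v = v → (ρ (y : G)).mulVec v = v := by
      intro v hv
      rcases eq_or_ne v 0 with rfl | hv0
      · rw [Matrix.mulVec_zero]
      · have h2 : π y = 1 := hy
        have h3 := congrArg (fun σ : Equiv.Perm W => σ ⟨v, hv, hv0⟩) h2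
        exact congrArg Subtype.val h3
    have h2 := hmain.2 (ρ (y : G)) (hunit _)
      (by rw [← map_mul, ← map_mul, hcomm]) h1
    rw [← map_pow] at h2
    have h3 : (y : G) ^ (Fintype.card F ^ f - 1) = 1 := hρ (by rw [h2, map_one])
    exact Subtype.ext h3
  have hker : Nat.card π.ker ≤ r := by
    have hdvd : Nat.card π.ker ∣ Nat.card G :=
      (Subgroup.card_subgroup_dvd_card _).trans (Subgroup.card_subgroup_dvd_card _)
    have hprime : ∀ p : ℕ, p.Prime → p ∣ Nat.card π.ker → p = r := by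
      intro p hp hpd
      have : Fact p.Prime := ⟨hp⟩
      obtain ⟨y, hy⟩ := exists_prime_orderOf_dvd_card' (G := π.ker) p hpd
      have h1 : y ^ (Fintype.card F ^ f - 1) = 1 := Subtype.ext (hkerpow y.1 y.2)
      have h2 : p ∣ Fintype.card F ^ f - 1 := by rw [← hy]; exact orderOf_dvd_of_pow_eq_one h1
      exact hG p hp h2 (hpd.trans hdvd)
    obtain ⟨k, hk⟩ : ∃ k, Nat.card π.ker = r ^ k :=
      ⟨_, Nat.eq_prime_pow_of_unique_prime_dvd Nat.card_pos.ne'
        (fun {p} hp hd => hprime p hp hd)⟩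
    rw [hk]
    have hk1 : k ≤ 1 := by
      by_contra hlt
      push Not at hlt
      exact hr2 ((pow_dvd_pow r hlt).trans (hk ▸ hdvd))
    exact (Nat.pow_le_pow_right hr.pos hk1).trans (pow_one r).le
  have hWcard : Nat.card W ≤ Fintype.card F ^ (Fintype.card d - (r - 1)) - 1 := by
    have h1 : Nat.card W + 1 ≤ Nat.card {v : d → F // (ρ x).mulVec v = v} := by
      have h2 : Nat.card (Option W) = Nat.card W + 1 := Finite.card_option
      rw [← h2]
      refine Nat.card_le_card_of_injective (fun o : Option W =>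
        (match o with
          | none => ⟨0, Matrix.mulVec_zero _⟩
          | some w => ⟨w.1, w.2.1⟩ : {v : d → F // (ρ x).mulVec v = v})) ?_
      rintro (_ | a) (_ | b) hab
      · rfl
      · exact absurd (congrArg Subtype.val hab).symm b.2.2
      · exact absurd (congrArg Subtype.val hab) a.2.2
      · have h3 : a.1 = b.1 :=
          congrArg (fun z : {v : d → F // (ρ x).mulVec v = v} => z.1) hab
        exact congrArg some (Subtype.ext h3)
    have h2 := hmain.1
    omega
  have hrange : Nat.card π.range ≤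
      (Fintype.card F ^ (Fintype.card d - (r - 1)) - 1).factorial := by
    refine (Nat.card_le_card_of_injective (fun a : π.range => (a : Equiv.Perm W))
      Subtype.val_injective).trans ?_
    rw [Nat.card_perm]
    exact Nat.factorial_le hWcard
  have h1 := Subgroup.card_mul_index π.ker
  rw [Subgroup.index_ker] at h1
  rw [← h1]
  exact Nat.mul_le_mul hker hrange

end main

end Cfsg.Agent.H689
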