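import Mathlib
import Cfsg.Agent.H689.Twist
import Cfsg.Agent.MonsterU.Lam2
import Cfsg.Agent.NotCT.Orders

/-!
# `Co₁` and `Co₂`
-/

set_option autoImplicit false
set_option linter.unusedSectionVars false

open Cfsg Subgroup

namespace Cfsg.Agent.H689

universe u

open MonsterU.Lam2 in
theorem exists_rep_co1 : ∃ (d : ℕ) (ρ : Spor.Co1 →* Matrix (Fin d) (Fin d) (ZMod 2)), d = 24 ∧
    Function.Injective ρ := by
  classical
  have hfin : Module.finrank (ZMod 2) L2 = 24 := by
    have h1 := Module.natCard_eq_pow_finrank (K := ZMod 2) (V := L2)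
    rw [card_L2, Nat.card_zmod] at h1
    exact (Nat.pow_right_injective (le_refl 2) h1).symm
  refine ⟨_, ((LinearMap.toMatrixAlgEquiv (Module.finBasis (ZMod 2) L2)).toMulEquiv.toMonoidHom).comp
    (rep1 : Spor.Co1 →* Module.End (ZMod 2) L2), hfin, ?_⟩
  intro a b hab
  apply eq_of_smul
  intro x
  have h1 : rep1 a = rep1 b :=
    (LinearMap.toMatrixAlgEquiv (Module.finBasis (ZMod 2) L2)).injective hab
  rw [← rep1_apply, h1, rep1_apply]

theorem not_orat_of_co1_hom {G : Type u} [Group G] [Finite G] (ψ : G →* Spor.Co1)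
    (hψ : Function.Injective ψ) (N : ℕ) (hN : Nat.card G = 23 * N) (hrN : ¬ 23 ∣ N)
    (h89 : ¬ 89 ∣ Nat.card G)
    (hk : ∀ k ≤ 6, (23 - 1) * k ∣ N → (k + N) % 23 ≠ 0) : ¬ ORat 2 G := by
  intro h
  obtain ⟨d, ρ, hd, hρ⟩ := exists_rep_co1
  refine not_orat_of_centralizer (r := 23) (N := N) (by norm_num) (by norm_num) hN hrN
    (fun k => k ≤ 6) ?_ hk h
  intro x k hx hk1
  have h1 := card_centralizer_twist (ρ.comp ψ) (hρ.comp hψ) (f := 11) h (r := 23) (by norm_num)
    (by norm_num) (by decide) (by rw [Fintype.card_fin, hd]; norm_num)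
    (by rw [ZMod.card]; norm_num) (by
      intro p hp hpd hpG
      rw [ZMod.card, show 2 ^ 11 - 1 = 23 * 89 by norm_num] at hpd
      rcases (Nat.Prime.dvd_mul hp).1 hpd with h2 | h2
      · exact (Nat.prime_dvd_prime_iff_eq hp (by norm_num)).1 h2
      · rw [(Nat.prime_dvd_prime_iff_eq hp (by norm_num)).1 h2] at hpG
        exact absurd hpG h89) (by
      rw [hN, pow_two]
      intro h2
      exact hrN (Nat.dvd_of_mul_dvd_mul_left (by norm_num) h2)) hx
  rw [hk1, Fintype.card_fin, hd, ZMod.card,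
    show Nat.factorial (2 ^ (24 - (23 - 1)) - 1) = 6 from by decide] at h1
  omega

theorem not_orat_co1 {G : Type u} [Group G] [Finite G] (h : Spor.IsoCo1 G) : ¬ ORat 2 G := by
  have hc := NotCT.Orders.co1 h
  obtain ⟨e⟩ := h
  refine not_orat_of_co1_hom e.toMonoidHom e.injective 180772904632320000 (by rw [hc])
    (by norm_num) (by rw [hc]; norm_num) ?_
  intro k hk
  interval_cases k <;> norm_num

/-- `Co₂` embeds in `Co₁`. -/
theorem exists_co2_hom : ∃ ψ : Spor.Co2 →* Spor.Co1, Function.Injective ψ := by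
  refine ⟨(QuotientGroup.mk' (Subgroup.center Co0)).comp
    (Subgroup.inclusion (show Spor.Co2 ≤ Co0 from inf_le_left)), ?_⟩
  rw [injective_iff_map_eq_one]
  intro g hg
  have h1 : Subgroup.inclusion (show Spor.Co2 ≤ Co0 from inf_le_left) g ∈
      Subgroup.center Co0 := (QuotientGroup.eq_one_iff _).1 hg
  rcases SporadicA.Co0Basic.eq_one_or_neg_of_mem_center h1 with h2 | h2
  · apply Subtype.ext
    exact congrArg (fun t : Co0 => (t : Equiv.Perm leechLattice)) h2
  · exfalso
    have h3 : (g : Equiv.Perm leechLattice) Spor.leechU = Spor.leechU := g.2.2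
    have h4 : (g : Equiv.Perm leechLattice) = (SporadicA.Co0Basic.negCo0 : Equiv.Perm leechLattice) :=
      congrArg (fun t : Co0 => (t : Equiv.Perm leechLattice)) h2
    rw [h4, SporadicA.Co0Basic.negCo0_apply] at h3
    have h5 : -(Spor.vecU none) = Spor.vecU none :=
      congrArg (fun v : leechLattice => (v : GolayPt → ℤ) none) h3
    revert h5
    decide

theorem not_orat_co2 {G : Type u} [Group G] [Finite G] (h : Spor.IsoCo2 G) : ¬ ORat 2 G := by
  have hc := NotCT.Orders.co2 h
  obtain ⟨e⟩ := h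
  obtain ⟨ψ, hψ⟩ := exists_co2_hom
  refine not_orat_of_co1_hom (ψ.comp e.toMonoidHom) (hψ.comp e.injective) 1839366144000
    (by rw [hc]) (by norm_num) (by rw [hc]; norm_num) ?_
  intro k hk
  interval_cases k <;> norm_num

end Cfsg.Agent.H689
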