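import Cfsg.Agent.H689.Sp6Alt
import Cfsg.Agent.H689.Rat
import Cfsg.Agent.S0157
import Cfsg.Agent.StandardComponent.SpTwoAut

/-!
# `Sp₆(2)` has two irreducible characters of degree 21
-/

set_option autoImplicit false

open scoped ComplexConjugate
open Cfsg Cfsg.Agent.SporRec.TwoSp6.Sp Cfsg.Agent.H689.MatRep Cfsg.Agent.Characters

namespace Cfsg.Agent.H689.Sp6

attribute [local irreducible] act Cfsg.sympForm

/-! ### two-transitivity -/

theorem om_smul_right (c : ZMod 2) (u v : V) : om u (c • v) = c * om u v := om_smul_self c u v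

theorem cg_tr (v : V) : cg (tr v) = (qf v + 1) • v := by
  apply cg_eq
  intro x
  rcases om_cases x v with h | h
  · rw [act_tr, h, zero_smul, add_zero, om_smul_right, h, mul_zero, add_zero]
  · have h1 : om v v = 0 := om_self _
    rw [act_tr, h, one_smul, om_smul_right, qf_add, om_add_left, h, h1]
    ring

theorem coe_tr_smul (v : V) (a : Z) : ((tr v • a : Z) : V) = (a : V) + (om (a : V) v + qf v + 1) • v := by
  rw [coe_smul, aff, act_tr, cg_tr, add_assoc, ← add_smul, add_assoc]

theorem tr_smul_self (a b : Z) : tr ((a : V) + b) • a = b := by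
  apply Subtype.ext
  have h1 : om (a : V) a = 0 := om_self _
  have h2 : om (a : V) ((a : V) + b) + qf ((a : V) + b) + 1 = 1 := by
    rw [om_add_right, qf_add, a.2, b.2, h1]
    linear_combination (om (a : V) b + 1) * z2_two
  rw [coe_tr_smul, h2, one_smul, ← add_assoc, add_self, zero_add]

theorem tr_smul_of (a b c : Z) (h : om (c : V) a + om (c : V) b + om (a : V) b = 1) :
    tr ((a : V) + b) • c = c := by
  apply Subtype.ext
  have h2 : om (c : V) ((a : V) + b) + qf ((a : V) + b) + 1 = 0 := by
    rw [om_add_right, qf_add, a.2, b.2]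
    linear_combination h + 2 * z2_two
  rw [coe_tr_smul, h2, zero_smul, add_zero]

instance : MulAction.IsPretransitive S Z := ⟨fun a b => ⟨_, tr_smul_self a b⟩⟩

/-- The condition for a step. -/
def good (x y : ℕ) : Bool := fN 9 x ^^ (fN 9 y ^^ fN x y)

theorem steps : ∀ b : Fin 64, qN b → b ≠ 9 → b = 11 ∨ good 11 b ∨
    ∃ d : Fin 64, qN d ∧ good 11 d ∧ good d b := by decide +kernel

/-- The point with a given code. -/
def pt (c : ℕ) (h : qN c = true) : Z := ⟨enc c, by rw [qf_enc, h]; rfl⟩

theorem step_of_good (x y : ℕ) (hx : qN x = true) (hy : qN y = true) (h : good x y = true) :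
    ∃ g : S, g • pt 9 (by decide) = pt 9 (by decide) ∧ g • pt x hx = pt y hy := by
  refine ⟨tr ((pt x hx : V) + pt y hy), tr_smul_of _ _ _ ?_, tr_smul_self _ _⟩
  show om (enc 9) (enc x) + om (enc 9) (enc y) + om (enc x) (enc y) = 1
  rw [om_enc, om_enc, om_enc]
  unfold good at h
  revert h
  cases fN 9 x <;> cases fN 9 y <;> cases fN x y <;> decide

theorem exists_fix (b : Z) (hb : b ≠ pt 9 (by decide)) :
    ∃ g : S, g • pt 9 (by decide) = pt 9 (by decide) ∧ g • pt 11 (by decide) = b := by
  have hb2 : b = pt (code b.1) (qN_code b) := Subtype.ext (enc_code _).symm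
  have hb3 : code b.1 ≠ 9 := by
    intro h
    apply hb
    rw [hb2]
    apply Subtype.ext
    show enc (code b.1) = enc 9
    rw [h]
    rfl
  rcases steps (code b.1) (qN_code b) hb3 with h | h | ⟨d, hd, h1, h2⟩
  · refine ⟨1, one_smul _ _, ?_⟩
    rw [one_smul]
    conv_rhs => rw [hb2]
    apply Subtype.ext
    show enc 11 = enc (code b.1)
    rw [h]
    rfl
  · obtain ⟨g, hg1, hg2⟩ := step_of_good 11 (code b.1) (by decide) (qN_code b) h
    exact ⟨g, hg1, by rw [hg2, ← hb2]⟩
  · obtain ⟨g, hg1, hg2⟩ := step_of_good 11 d (by decide) hd h1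
    obtain ⟨k, hk1, hk2⟩ := step_of_good d (code b.1) hd (qN_code b) h2
    exact ⟨k * g, by rw [mul_smul, hg1, hk1], by rw [mul_smul, hg2, hk2, ← hb2]⟩

theorem two_transitive : MulAction.IsMultiplyPretransitive S Z 2 := by
  rw [MulAction.is_two_pretransitive_iff]
  have key : ∀ a b : Z, a ≠ b → ∃ g : S, g • pt 9 (by decide) = a ∧ g • pt 11 (by decide) = b := by
    intro a b hab
    obtain ⟨g, hg⟩ := MulAction.exists_smul_eq S (pt 9 (by decide)) a
    have h1 : g⁻¹ • b ≠ pt 9 (by decide) := by
      intro h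
      apply hab
      rw [← hg, ← h, smul_inv_smul]
    obtain ⟨k, hk1, hk2⟩ := exists_fix _ h1
    exact ⟨g * k, by rw [mul_smul, hk1, hg], by rw [mul_smul, hk2, smul_inv_smul]⟩
  intro a b c d hab hcd
  obtain ⟨g, hg1, hg2⟩ := key a b hab
  obtain ⟨k, hk1, hk2⟩ := key c d hcd
  refine ⟨k * g⁻¹, ?_, ?_⟩
  · rw [mul_smul, ← hg1, inv_smul_smul, hk1]
  · rw [mul_smul, ← hg2, inv_smul_smul, hk2]

/-! ### the monomial character -/

theorem trace_M (g : S) : (M ℂ g).trace = ∑ a : Z, if g • a = a then ((eps g a : ℤ) : ℂ) else 0 := by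
  rw [Matrix.trace]
  refine Finset.sum_congr rfl fun a _ => ?_
  simp only [Matrix.diag_apply, M, eq_comm]

theorem eps_mul_eps (g : S) (a b : Z) (ha : g • a = a) (hb : g • b = b) : eps g a * eps g b = 1 := by
  have h := sgn_om_smul g a b
  rw [ha, hb] at h
  have h2 := sgn_mul_self (om (a : V) b)
  linear_combination (-sgn (om (a : V) b)) * h + (1 - eps g a * eps g b) * h2

theorem trace_M_sq (g : S) : (M ℂ g).trace ^ 2 = (Nat.card (MulAction.fixedBy Z g) : ℂ) ^ 2 := by
  classical
  have h1 : (M ℂ g).trace = ∑ a ∈ Finset.univ.filter (fun a : Z => g • a = a), ((eps g a : ℤ) : ℂ) := by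
    rw [trace_M, Finset.sum_filter]
  have h2 : Nat.card (MulAction.fixedBy Z g) = (Finset.univ.filter (fun a : Z => g • a = a)).card := by
    rw [Nat.card_eq_fintype_card, Fintype.card_subtype]
    rfl
  rw [h1, h2, pow_two, pow_two, Finset.sum_mul_sum]
  rw [Finset.sum_congr rfl fun a ha => Finset.sum_congr rfl fun b hb => by
    rw [← Int.cast_mul, eps_mul_eps g a b (Finset.mem_filter.1 ha).2 (Finset.mem_filter.1 hb).2, Int.cast_one]]
  simp

theorem conj_dl (g : S) : conj (dl g) = dl g := by
  rcases mul_self_eq_one_iff.1 (dl_mul_self g) with h | h <;> rw [h] <;> simp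

/-- The character of degree 28. -/
noncomputable def ch28 (g : S) : ℂ := (r28 g).trace

/-- The character of degree 7. -/
noncomputable def ch7 (g : S) : ℂ := (r7 g).trace

/-- The second character of degree 21. -/
noncomputable def ch21 (g : S) : ℂ := ch28 g - ch7 g

/-- The exterior square. -/
noncomputable def chL (g : S) : ℂ := (ch7 g ^ 2 - ch7 (g * g)) / 2

theorem isCharacter_ch28 : IsCharacter S ch28 := MatRep.isCharacter r28

theorem isCharacter_ch7 : IsCharacter S ch7 := MatRep.isCharacter r7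

theorem isCharacter_chL : IsCharacter S chL := PermChar.SymAlt.isCharacter_altSq isCharacter_ch7

theorem isCharacter_ch21 : IsCharacter S ch21 := by
  refine MatRep.isCharacter_sub r28 r7 Uc ((12 : ℂ)⁻¹ • Uc.transpose) ?_ Uc_mul_r7 ?_
  · rw [Matrix.smul_mul, Uc_transpose_mul, smul_smul, inv_mul_cancel₀ (by norm_num), one_smul]
  · intro g
    rw [Matrix.smul_mul, transpose_mul_r28, Matrix.mul_smul]

theorem ch28_eq (g : S) : ch28 g = dl g * (M ℂ g).trace := by
  rw [ch28, r28_apply, Matrix.trace_smul, smul_eq_mul]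

theorem ch7_eq (g : S) : ch7 g = dl g * (Rm g).trace := by
  rw [ch7, r7_apply, Matrix.trace_smul, smul_eq_mul]

theorem conj_ch28 (g : S) : conj (ch28 g) = ch28 g := by
  rw [ch28_eq, map_mul, conj_dl]
  congr 1
  rw [trace_M, map_sum]
  refine Finset.sum_congr rfl fun a _ => ?_
  split_ifs <;> simp

theorem ch28_mul_conj (g : S) : ch28 g * conj (ch28 g) = (Nat.card (MulAction.fixedBy Z g) : ℂ) ^ 2 := by
  rw [conj_ch28, ch28_eq, ← trace_M_sq]
  linear_combination ((M ℂ g).trace ^ 2) * dl_mul_self g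

theorem classInner_ch28 [Fintype S] : classInner ch28 ch28 = 2 := by
  have hirr : IsIrrCharacter S (fun g => (Nat.card (MulAction.fixedBy Z g) : ℂ) - 1) :=
    (Cfsg.Agent.S0157.result Z (by rw [Nat.card_eq_fintype_card, card_Z]; norm_num)).2 two_transitive
  have hone : IsIrrCharacter S (1 : S → ℂ) := Core.isIrr_one
  have hne : (fun g : S => (Nat.card (MulAction.fixedBy Z g) : ℂ) - 1) ≠ 1 := by
    intro h
    have h1 := congrFun h 1
    have h2 : Nat.card (MulAction.fixedBy Z (1 : S)) = 28 := by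
      rw [Nat.card_congr (Equiv.subtypeUnivEquiv (fun x => by rw [MulAction.mem_fixedBy, one_smul])),
        Nat.card_eq_fintype_card, card_Z]
    simp only [h2, Pi.one_apply] at h1
    norm_num at h1
  have h1 := Core.classInner_irr_self hirr
  have h2 := Core.classInner_irr_ne hirr hone hne
  have hc : (Nat.card S : ℂ) ≠ 0 := Core.card_ne_zero_complex
  rw [Core.classInner_def] at h1 h2 ⊢
  simp only [map_sub, map_natCast, map_one, Pi.one_apply, mul_one] at h1 h2
  simp only [ch28_mul_conj]
  have h3 : ∑ g : S, (Nat.card (MulAction.fixedBy Z g) : ℂ) ^ 2 =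
      ∑ g : S, ((Nat.card (MulAction.fixedBy Z g) : ℂ) - 1) * ((Nat.card (MulAction.fixedBy Z g) : ℂ) - 1) +
      2 * ∑ g : S, ((Nat.card (MulAction.fixedBy Z g) : ℂ) - 1) + ∑ g : S, (1 : ℂ) := by
    rw [Finset.mul_sum, ← Finset.sum_add_distrib, ← Finset.sum_add_distrib]
    refine Finset.sum_congr rfl fun g _ => ?_
    ring
  have h4 : ∑ g : S, (1 : ℂ) = (Nat.card S : ℂ) := by simp
  rw [h3, h4, mul_add, mul_add, h1, mul_left_comm, h2, inv_mul_cancel₀ hc]
  norm_num

theorem isIrr_chL : IsIrrCharacter S chL := by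
  have : Fintype S := Fintype.ofFinite S
  rw [Core.isIrr_iff_classInner_self isCharacter_chL, Core.classInner_def]
  have h1 : ∀ g : S, chL g * conj (chL g) = (r21 g).trace * (r21 g⁻¹).trace := by
    intro g
    rw [← Core.isCharacter_apply_inv isCharacter_chL g, trace_r21, trace_r21]
    rfl
  have hc : (Nat.card S : ℂ) ≠ 0 := Core.card_ne_zero_complex
  rw [Finset.sum_congr rfl fun g _ => h1 g, sum_r21, ← Nat.card_eq_fintype_card, inv_mul_cancel₀ hc]

theorem ch28_one : ch28 1 = 28 := by
  rw [ch28, map_one, Matrix.trace_one, card_Z]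
  norm_num

theorem ch7_one : ch7 1 = 7 := by
  rw [ch7, map_one, Matrix.trace_one, Fintype.card_fin]
  norm_num

theorem isIrr_ch21 : IsIrrCharacter S ch21 := by
  have : Fintype S := Fintype.ofFinite S
  rw [Core.isIrr_iff_classInner_self isCharacter_ch21]
  obtain ⟨a, ha⟩ := Core.classInner_isNat isCharacter_ch7 isCharacter_ch7
  obtain ⟨b, hb⟩ := Core.classInner_isNat isCharacter_ch7 isCharacter_ch21
  obtain ⟨c, hc⟩ := Core.classInner_isNat isCharacter_ch21 isCharacter_ch7
  obtain ⟨d, hd⟩ := Core.classInner_isNat isCharacter_ch21 isCharacter_ch21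
  have ha0 : a ≠ 0 := by
    rintro rfl
    rw [Nat.cast_zero] at ha
    have := congrFun (Core.classInner_self_eq_zero ha) 1
    rw [ch7_one] at this
    norm_num at this
  have hd0 : d ≠ 0 := by
    rintro rfl
    rw [Nat.cast_zero] at hd
    have := congrFun (Core.classInner_self_eq_zero hd) 1
    rw [ch21, ch7_one, ch28_one] at this
    norm_num at this
  have hsum : ch28 = ch7 + ch21 := by
    funext g
    simp [ch21]
  have h1 := classInner_ch28
  rw [hsum, Core.classInner_add_left, Core.classInner_add_right, Core.classInner_add_right, ha, hb, hc, hd] at h1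
  have h2 : (a + b) + (c + d) = 2 := by exact_mod_cast h1
  rw [hd]
  have : d = 1 := by omega
  rw [this, Nat.cast_one]

theorem ch7_tv : ch7 (tv 0) = -5 * dl (tv 0) := by
  rw [ch7_eq, Rm_tv, Matrix.trace, Fin.sum_univ_seven]
  simp [mono]
  ring

theorem sum_fix : (∑ c : Fin 64, if qN c then (if fN c (kc 0) then (-1 : ℤ) else 0) else 0) = -16 := by
  decide +kernel

theorem trace_M_tv : (M ℂ (tv 0)).trace = -16 := by
  have h1 : (M ℂ (tv 0)).trace = ((∑ a : Z, (if fN (code a.1) (kc 0) then (-1 : ℤ) else 0) : ℤ) : ℂ) := by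
    rw [trace_M, Int.cast_sum]
    refine Finset.sum_congr rfl fun a _ => ?_
    rcases om_cases (a : V) (enc (kc 0)) with h | h
    · have hf : fN (code a.1) (kc 0) = false := by
        by_contra hcon
        rw [Bool.not_eq_false] at hcon
        rw [om_code, hcon] at h
        exact absurd h (by decide)
      have h2 : tv 0 • a ≠ a := by
        intro h3
        have h4 := congrArg Subtype.val h3
        rw [coe_smul_tv_of_zero 0 a h] at h4
        have h5 : enc (kc 0) = 0 := by
          have h6 : (a : V) + ((a : V) + enc (kc 0)) = (a : V) + a := by rw [h4]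
          rwa [← add_assoc, add_self, zero_add] at h6
        exact absurd h5 (by decide)
      rw [if_neg h2, hf]
      simp
    · have hf : fN (code a.1) (kc 0) = true := by
        by_contra hcon
        rw [Bool.not_eq_true] at hcon
        rw [om_code, hcon] at h
        exact absurd h (by decide)
      rw [if_pos (smul_tv_of_one 0 a h), hf, if_pos rfl]
      congr 1
      unfold eps
      rw [smul_tv_of_one 0 a h, cg_tv, h]
      rfl
  have h2 := sum_Z (fun v => if fN (code v) (kc 0) then (-1 : ℤ) else 0)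
  simp only [code_enc] at h2
  rw [h1, h2, sum_fix]
  norm_num

theorem chL_ne : chL ≠ ch21 := by
  intro h
  have h1 := congrFun h (tv 0)
  have h2 : tv 0 * tv 0 = 1 := tr_sq _
  rw [chL, ch21, h2, ch7_one, ch7_tv, ch28_eq, trace_M_tv] at h1
  have h3 := dl_mul_self (tv 0)
  rcases mul_self_eq_one_iff.1 h3 with h4 | h4 <;> rw [h4] at h1 <;> norm_num at h1

theorem not_ratl : ¬ Ratl S := by
  intro h
  have : Fintype S := Fintype.ofFinite S
  refine h.gen (chL - ch21) ⟨_, _, isCharacter_chL, isCharacter_ch21, rfl⟩ ?_ ?_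
  · rw [Pi.sub_apply, chL, ch21, mul_one, ch7_one, ch28_one]
    norm_num
  · rw [Core.classInner_sub_left, Core.classInner_sub_right, Core.classInner_sub_right,
      Core.classInner_irr_self isIrr_chL, Core.classInner_irr_self isIrr_ch21,
      Core.classInner_irr_ne isIrr_chL isIrr_ch21 chL_ne,
      Core.classInner_irr_ne isIrr_ch21 isIrr_chL chL_ne.symm]
    norm_num

end Cfsg.Agent.H689.Sp6

namespace Cfsg.Agent.H689

theorem not_ratl_psp_six {F : Type*} [Field F] [Fintype F] (hF : Fintype.card F = 2) :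
    ¬ Ratl (PSp 3 F) := by
  obtain ⟨e⟩ := StandardComponent.SpTwoAut.exists_equiv hF
  exact fun h => Sp6.not_ratl (h.of_equiv e)

end Cfsg.Agent.H689
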