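import Mathlib
import Cfsg.Agent.H689.NonPerf
import Cfsg.Agent.S4762

/-!
# The groups of the conclusion have distinct nonlinear degrees
-/

set_option autoImplicit false
set_option linter.unusedSectionVars false

open scoped ComplexConjugate commutatorElement Pointwise
open Cfsg Cfsg.Agent.Characters Cfsg.Agent.H686.CharKit Subgroup

namespace Cfsg.Agent.H689

universe u

variable {G : Type u} [Group G] [Finite G] {K H : Subgroup G}

theorem charDegree_of_comm (hK : ∀ a b : G, a * b = b * a) (τ : IrrCharacter G) :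
    charDegree (τ : G → ℂ) = 1 := by
  have hc : charDegree (τ : G → ℂ) ^ 2 ≤ (center G).index :=
    H678.Codeg.sq_charDegree_le_index_center τ
  have htop : center G = ⊤ := by
    rw [eq_top_iff]
    intro x _
    rw [mem_center_iff]
    intro y
    exact hK y x
  rw [htop, index_top] at hc
  have h0 := charDegree_pos τ
  nlinarith

theorem DD.of_comm (hc : ∀ a b : G, a * b = b * a) : DD G :=
  fun χ _ _ h => absurd (charDegree_of_comm hc χ) h

theorem DD.of_extraspecial (hG : IsExtraspecial 2 G) : DD G := by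
  have h2 : ∀ χ : IrrCharacter G, charDegree (χ : G → ℂ) ≠ 1 → 2 ∣ charDegree (χ : G → ℂ) := by
    intro χ hχ
    obtain ⟨⟨hp, -, -⟩, -⟩ := hG
    have : Fact (Nat.Prime 2) := ⟨Nat.prime_two⟩
    obtain ⟨n, hn⟩ := IsPGroup.iff_card.1 hp
    have h1 : charDegree (χ : G → ℂ) ∣ Nat.card G := H669.Basic.charDegree_dvd_card χ.2
    rw [hn] at h1
    obtain ⟨a, -, ha⟩ := (Nat.dvd_prime_pow Nat.prime_two).1 h1
    rw [ha] at hχ ⊢
    refine dvd_pow_self 2 ?_
    rintro rfl
    exact hχ (pow_zero 2)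
  intro χ ψ hne hχ heq
  apply hne
  exact Subtype.ext (S4762.unique_of_extraspecial hG χ.2 (h2 χ hχ) ψ.2 (h2 ψ (by rw [← heq]; exact hχ)))

theorem DD.of_card_eight (hc : Nat.card G = 8) : DD G := by
  classical
  have := Fintype.ofFinite G
  have := Core.finite_irr (G := G)
  have := Fintype.ofFinite (IrrCharacter G)
  intro χ ψ hne hχ heq
  have hsum := sum_nonlinear (G := G)
  have h1 : ({χ, ψ} : Finset (IrrCharacter G)) ⊆
      Finset.univ.filter (fun χ : IrrCharacter G => charDegree (χ : G → ℂ) ≠ 1) := by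
    intro x hx
    rw [Finset.mem_insert, Finset.mem_singleton] at hx
    rw [Finset.mem_filter]
    rcases hx with rfl | rfl
    · exact ⟨Finset.mem_univ _, hχ⟩
    · exact ⟨Finset.mem_univ _, by rw [← heq]; exact hχ⟩
  have h2 := Finset.sum_le_sum_of_subset (f := fun χ : IrrCharacter G =>
    charDegree (χ : G → ℂ) ^ 2) h1
  rw [Finset.sum_pair hne] at h2
  rw [hc] at hsum
  have h3 : 0 < (commutator G).index := Nat.pos_of_ne_zero index_ne_zero_of_finite
  have h4 := charDegree_pos χ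
  have h5 : 2 ≤ charDegree (χ : G → ℂ) := by omega
  have h6 : 2 ≤ charDegree (ψ : G → ℂ) := by rw [← heq]; exact h5
  have h7 : 4 ≤ charDegree (χ : G → ℂ) ^ 2 := by nlinarith
  have h8 : 4 ≤ charDegree (ψ : G → ℂ) ^ 2 := by nlinarith
  omega

/-- Frobenius groups with commutative kernel of order `|H| + 1`. -/
theorem Frob.dd (F : Frob K H) (hK : ∀ a ∈ K, ∀ b ∈ K, a * b = b * a)
    (hcard : Nat.card K = Nat.card H + 1) (hq : letI := F.normal; DD (G ⧸ K)) : DD G := by
  classical
  have := Fintype.ofFinite G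
  have := Core.finite_irr (G := G)
  have := Fintype.ofFinite (IrrCharacter G)
  have := F.normal
  have := Core.finite_irr (G := G ⧸ K)
  have := Fintype.ofFinite (IrrCharacter (G ⧸ K))
  have hsum := sum_not_ker (G := G) K
  set X := Finset.univ.filter (fun χ : IrrCharacter G => ¬ K ≤ chKer χ) with hX
  have hKc : ∀ τ : IrrCharacter K, (τ : K → ℂ) 1 = 1 := fun τ =>
    (charDegree_eq_one_iff τ).1 (charDegree_of_comm (fun a b => Subtype.ext (hK a a.2 b b.2)) τ)
  have hdeg : ∀ χ : IrrCharacter G, ¬ K ≤ chKer χ → charDegree (χ : G → ℂ) = Nat.card H := by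
    intro χ hχ
    obtain ⟨τ, -, hτ⟩ := F.exists_ind χ hχ
    rw [hKc τ, mul_one, ← charDegree_irr] at hτ
    exact_mod_cast hτ
  have h1 : ∑ χ ∈ X, charDegree (χ : G → ℂ) ^ 2 = X.card * Nat.card H ^ 2 := by
    rw [Finset.sum_congr rfl fun χ hχ => by rw [hdeg χ (Finset.mem_filter.1 hχ).2],
      Finset.sum_const, smul_eq_mul]
  have hH := F.one_lt_card
  have hone : X.card = 1 := by
    rw [h1, F.index_kernel, ← F.card_mul, hcard] at hsum
    have h3 : X.card * Nat.card H ^ 2 = 1 * Nat.card H ^ 2 := by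
      have : (Nat.card H + 1) * Nat.card H = Nat.card H ^ 2 + Nat.card H := by ring
      rw [this] at hsum
      omega
    exact Nat.eq_of_mul_eq_mul_right (by positivity) h3
  -- degrees of the characters with `K` in the kernel
  have hlt : ∀ χ : IrrCharacter G, K ≤ chKer χ → charDegree (χ : G → ℂ) < Nat.card H := by
    intro χ hχ
    obtain ⟨ψ, rfl⟩ := exists_infl K χ hχ
    have h2 := sum_deg_sq (G := G ⧸ K)
    have h3 : charDegree (ψ : G ⧸ K → ℂ) ^ 2 ≤ Nat.card (G ⧸ K) := by
      rw [← h2]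
      exact Finset.single_le_sum (f := fun ψ : IrrCharacter (G ⧸ K) =>
        charDegree (ψ : G ⧸ K → ℂ) ^ 2) (fun _ _ => Nat.zero_le _) (Finset.mem_univ ψ)
    have h4 : Nat.card (G ⧸ K) = Nat.card H := F.index_kernel
    rw [h4] at h3
    have h5 : charDegree (infl K ψ : G → ℂ) = charDegree (ψ : G ⧸ K → ℂ) := rfl
    rw [h5]
    nlinarith
  intro χ ψ hne hχ heq
  by_cases h2 : K ≤ chKer χ
  · have h3 : K ≤ chKer ψ := by
      by_contra h4
      have h5 := hlt χ h2
      rw [heq, hdeg ψ h4] at h5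
      exact lt_irrefl _ h5
    obtain ⟨χ', rfl⟩ := exists_infl K χ h2
    obtain ⟨ψ', rfl⟩ := exists_infl K ψ h3
    exact hq χ' ψ' (fun h => hne (by rw [h])) hχ heq
  · have h3 : ¬ K ≤ chKer ψ := by
      intro h4
      have h5 := hlt ψ h4
      rw [← heq, hdeg χ h2] at h5
      exact lt_irrefl _ h5
    obtain ⟨θ, hθ⟩ := Finset.card_eq_one.1 hone
    have h4 : χ ∈ X := Finset.mem_filter.2 ⟨Finset.mem_univ _, h2⟩
    have h5 : ψ ∈ X := Finset.mem_filter.2 ⟨Finset.mem_univ _, h3⟩
    rw [hθ, Finset.mem_singleton] at h4 h5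
    exact hne (h4.trans h5.symm)

theorem Frob.of_isFC (hH : IsFrobeniusComplement H) (hK : frobeniusKernel H = (K : Set G)) :
    Frob K H := by
  obtain ⟨N, hN, hNn, hNc⟩ := S0035.result H hH
  have hNK : N = K := SetLike.coe_injective (hN.trans hK)
  subst hNK
  have hne : N ≠ ⊥ := by
    rintro rfl
    have := hNc.sup_eq_top
    rw [bot_sup_eq] at this
    exact hH.2.1 this
  refine ⟨hNn, hNc, hne, hH.1, ?_⟩
  intro h hh h1 k hk hhk
  have h2 := (S0039.result N H hNc hne hH.1).1 hH h hh h1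
  have h3 : k ∈ N ⊓ centralizer {h} := ⟨hk, mem_centralizer_singleton_iff.2 hhk.symm⟩
  rw [h2, mem_bot] at h3
  exact h3

/-- The converse direction. -/
theorem DD.of_concl (h : (IsMulCommutative G ∨ IsExtraspecial 2 G ∨
        ∃ (H K : Subgroup G) (q n : ℕ), q.Prime ∧ IsFrobeniusComplement H ∧
          frobeniusKernel H = (K : Set G) ∧ K.Normal ∧
          IsElementaryAbelian q K ∧ Nat.card K = q ^ n ∧
          ((Nonempty (H ≃* QuaternionGroup 2) ∧ q ^ n = 9) ∨
            (IsCyclic H ∧ Nat.card H = q ^ n - 1)))) : DD G := by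
  rcases h with h | h | ⟨H, K, q, n, hq, hH, hK, hKn, hel, hcard, h⟩
  · exact DD.of_comm (fun a b => h.is_comm.comm a b)
  · exact DD.of_extraspecial h
  have F := Frob.of_isFC hH hK
  have hKc : ∀ a ∈ K, ∀ b ∈ K, a * b = b * a := fun a ha b hb =>
    congrArg Subtype.val (hel.1.is_comm.comm ⟨a, ha⟩ ⟨b, hb⟩)
  let e : G ⧸ K ≃* H := F.compl.symm.QuotientMulEquiv
  rcases h with ⟨⟨f⟩, h9⟩ | ⟨hc, hcH⟩
  · have h8 : Nat.card H = 8 := by
      rw [Nat.card_congr f.toEquiv, Nat.card_eq_fintype_card, QuaternionGroup.card]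
    refine F.dd hKc (by rw [hcard, h9, h8]) (DD.of_card_eight ?_)
    rw [Nat.card_congr e.toEquiv, h8]
  · have hqn : 0 < q ^ n := pow_pos hq.pos n
    refine F.dd hKc (by rw [hcard, hcH]; omega) (DD.of_comm ?_)
    intro a b
    apply e.injective
    rw [map_mul, map_mul]
    obtain ⟨g, hg⟩ := hc.exists_generator
    obtain ⟨i, hi⟩ := hg (e a)
    obtain ⟨j, hj⟩ := hg (e b)
    simp only at hi hj
    rw [← hi, ← hj, ← zpow_add, ← zpow_add, add_comm]

end Cfsg.Agent.H689
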