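import Cfsg.Agent.H689.Alt
import Cfsg.Agent.H689.ClaLin
import Cfsg.Agent.H689.ClaTwo
import Cfsg.Agent.H689.ClaSp
import Cfsg.Agent.H689.ClaOrth
import Cfsg.Agent.H689.ClaSmall
import Cfsg.Agent.H689.Psu4
import Cfsg.Agent.H689.O8Plus
import Cfsg.Agent.H689.Sp6Two
import Cfsg.Agent.H689.Exc1
import Cfsg.Agent.H689.Exc2
import Cfsg.Agent.H689.ExcSix
import Cfsg.Agent.H689.Exc3
import Cfsg.Agent.H689.ExcF4
import Cfsg.Agent.H689.ExcTE
import Cfsg.Agent.H689.ExcG4
import Cfsg.Agent.H689.E7Two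
import Cfsg.Agent.H689.SporTwo
import Cfsg.Agent.H689.MathPerm
import Cfsg.Agent.H689.SporJ2
import Cfsg.Agent.H689.SporMT
import Cfsg.Agent.H689.SporNorm
import Cfsg.Agent.H689.SporHe
import Cfsg.Agent.H689.SporRu
import Cfsg.Agent.H689.SporON
import Cfsg.Agent.H689.SporHN
import Cfsg.Agent.H689.SporSuz
import Cfsg.Agent.H689.SporCo3
import Cfsg.Agent.H689.SporCo12
import Cfsg.Agent.H689.SporB
import Cfsg.Agent.H689.SporM
import Cfsg.Agent.H689.SporHS

/-!
# No known nonabelian finite simple group satisfies `Ratl`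
-/

set_option autoImplicit false

open Cfsg

namespace Cfsg.Agent.H689

universe u

theorem exists_charP (F : Type*) [Field F] [Fintype F] : ∃ p : ℕ, p.Prime ∧ CharP F p := by
  obtain ⟨p, hp⟩ := CharP.exists F
  exact ⟨p, CharP.char_is_prime F p, hp⟩

theorem card_eq_two_or {F : Type*} [Field F] [Fintype F] (h : (2 : F) = 0) : CharP F 2 := by
  exact CharTwo.of_one_ne_zero_of_two_eq_zero one_ne_zero h

theorem not_ratl_psl {G : Type u} [Group G] (h : IsPSL G) : ¬ Ratl G := by
  obtain ⟨F, _, _, n, hn, h2, ⟨e⟩⟩ := h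
  intro hR
  have hR' := hR.of_equiv e
  obtain ⟨p, hp, hchar⟩ := exists_charP F
  rcases Nat.lt_or_ge n 3 with hn3 | hn3
  · have hn2 : n = 2 := by omega
    subst hn2
    by_cases h20 : (2 : F) = 0
    · have : CharP F 2 := card_eq_two_or h20
      exact not_orat_psl_two_even (h2 rfl) (hR'.orat 2)
    · exact not_ratl_psl_two h20 hR'
  · exact not_orat_psl p hn3 (hR'.orat p)

theorem not_ratl_isPSp {G : Type u} [Group G] (h : IsPSp G) : ¬ Ratl G := by
  obtain ⟨F, _, _, m, hm, h2, ⟨e⟩⟩ := h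
  intro hR
  have hR' := hR.of_equiv e
  obtain ⟨p, hp, hchar⟩ := exists_charP F
  rcases Nat.lt_or_ge m 3 with hm3 | hm3
  · have hm2 : m = 2 := by omega
    subst hm2
    by_cases h20 : (2 : F) = 0
    · have : CharP F 2 := card_eq_two_or h20
      exact not_orat_psp_two_even (h2 rfl) (hR'.orat 2)
    · exact not_ratl_psp_odd h20 (by omega) hR'
  · by_cases h3 : Fintype.card F = 2 ∧ m ≤ 4
    · obtain ⟨h3, h4⟩ := h3
      rcases Nat.lt_or_ge m 4 with h5 | h5
      · have hm2 : m = 3 := by omega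
        subst hm2
        exact not_ratl_psp_six h3 hR'
      · have hm2 : m = 4 := by omega
        subst hm2
        exact not_orat_psp_eight p h3 (hR'.orat p)
    · exact not_orat_psp p hm3 h3 (hR'.orat p)

theorem not_ratl_isPSU {G : Type u} [Group G] (h : IsPSU G) : ¬ Ratl G := by
  obtain ⟨F, _, _, n, q, hF, hn, h2, ⟨e⟩⟩ := h
  intro hR
  have hR' := hR.of_equiv e
  obtain ⟨p, hp, hchar⟩ := exists_charP F
  by_cases h3 : q = 2 ∧ n ≤ 4
  · obtain ⟨h3, h4⟩ := h3
    subst h3
    have h5 : n = 4 := by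
      have : ¬ n = 3 := fun h => h2 ⟨h, rfl⟩
      omega
    subst h5
    exact not_orat_psu_four hF (hR'.orat 1)
  · exact not_orat_psu p hF hn h3 (hR'.orat p)

theorem not_ratl_isOdd {G : Type u} [Group G] (h : IsPOmegaOdd G) : ¬ Ratl G := by
  obtain ⟨F, _, _, m, hm, ho, ⟨e⟩⟩ := h
  intro hR
  obtain ⟨p, hp, hchar⟩ := exists_charP F
  exact not_orat_oodd p hm ho ((hR.of_equiv e).orat p)

theorem not_ratl_isPlus {G : Type u} [Group G] (h : IsPOmegaPlus G) : ¬ Ratl G := by
  obtain ⟨F, _, _, m, hm, ⟨e⟩⟩ := h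
  intro hR
  have hR' := hR.of_equiv e
  obtain ⟨p, hp, hchar⟩ := exists_charP F
  by_cases h3 : Fintype.card F = 2 ∧ m ≤ 5
  · obtain ⟨h3, h4⟩ := h3
    rcases Nat.lt_or_ge m 5 with h5 | h5
    · have hm2 : m = 4 := by omega
      subst hm2
      exact not_ratl_oplus_eight h3 hR'
    · have hm2 : m = 5 := by omega
      subst hm2
      exact not_orat_oplus_ten p h3 (hR'.orat p)
  · exact not_orat_oplus p hm h3 (hR'.orat p)

theorem not_ratl_isMinus {G : Type u} [Group G] (h : IsPOmegaMinus G) : ¬ Ratl G := by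
  obtain ⟨F, _, _, m, a, b, hm, hab, ⟨e⟩⟩ := h
  intro hR
  have hR' := hR.of_equiv e
  obtain ⟨p, hp, hchar⟩ := exists_charP F
  by_cases h3 : Fintype.card F = 2 ∧ m ≤ 5
  · exact not_orat_ominus_two p h3.1 (by omega) a b hab (hR'.orat p)
  · exact not_orat_ominus p hm h3 a b hab (hR'.orat p)

theorem not_ratl_exc {G : Type u} [Group G] [Finite G] (h : IsExceptionalLieType G) : ¬ Ratl G := by
  rcases h with h | h | h | h | h | h | h | h | h | h | h
  · obtain ⟨F, _, _, hF, ⟨e⟩⟩ := h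
    exact fun hR => not_ratl_g2 hF (hR.of_equiv e)
  · obtain ⟨F, _, _, ⟨e⟩⟩ := h
    exact fun hR => not_ratl_f4 (hR.of_equiv e)
  · obtain ⟨F, _, _, ⟨e⟩⟩ := h
    exact fun hR => not_ratl_e6 (hR.of_equiv e)
  · obtain ⟨F, _, _, ⟨e⟩⟩ := h
    exact fun hR => not_ratl_e7 (hR.of_equiv e)
  · obtain ⟨F, _, _, ⟨e⟩⟩ := h
    exact fun hR => not_ratl_e8 (hR.of_equiv e)
  · obtain ⟨K, _, _, q, hq, hK, ⟨e⟩⟩ := h
    intro hR
    have hR' := hR.of_equiv e
    have h2 := card_te6 hq hK hR'
    subst h2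
    exact not_ratl_te6_two hK hR'
  · obtain ⟨K, _, _, q, hq, hK, ⟨e⟩⟩ := h
    exact fun hR => not_ratl_td4 hq hK (hR.of_equiv e)
  · obtain ⟨F, _, _, m, hm, hF, ⟨e⟩⟩ := h
    exact fun hR => not_ratl_sz hm hF (hR.of_equiv e)
  · obtain ⟨F, _, _, m, hm, hF, ⟨e⟩⟩ := h
    exact fun hR => not_ratl_ree hm hF (hR.of_equiv e)
  · obtain ⟨F, _, _, m, hm, hF, ⟨e⟩⟩ := h
    exact fun hR => not_ratl_tf4 hm hF (hR.of_equiv e)
  · exact not_ratl_tits h

theorem not_ratl_spor {G : Type u} [Group G] [Finite G] [IsSimpleGroup G] (h : IsSporadicGroup G) :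
    ¬ Ratl G := by
  rcases h with h | h | h | h | h | h | h | h | h | h | h | h | h | h | h | h | h | h | h | h | h | h | h | h | h | h
  · exact not_ratl_m11 h
  · exact not_ratl_m12 h
  · exact not_ratl_m22 h
  · exact not_ratl_m23 h
  · exact not_ratl_m24 h
  · exact not_ratl_j1 h
  · exact not_ratl_j2 h
  · exact not_ratl_j3 h
  · exact not_ratl_j4 h
  · exact fun hR => not_orat_co1 h (hR.orat 2)
  · exact fun hR => not_orat_co2 h (hR.orat 2)
  · exact not_ratl_co3 h
  · exact not_ratl_mcl h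
  · exact not_ratl_hs h
  · exact not_ratl_suz h
  · exact not_ratl_he h
  · exact not_ratl_ru h
  · exact not_ratl_on h
  · exact not_ratl_ly h
  · exact not_ratl_fi22 h
  · exact not_ratl_fi23 h
  · exact not_ratl_fi24 h
  · exact not_ratl_hn h
  · exact not_ratl_th h
  · exact not_ratl_b h
  · exact not_ratl_m h

/-- **No known nonabelian simple group satisfies `Ratl`.** -/
theorem not_ratl_known {G : Type u} [Group G] [Finite G] [IsSimpleGroup G]
    (hp : ¬ (Nat.card G).Prime) (h : IsKnownSimple' G) : ¬ Ratl G := by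
  rcases h with h | h | h | h | h | h | h | h | h | h
  · exact absurd h hp
  · obtain ⟨n, hn, ⟨e⟩⟩ := h
    exact fun hR => not_ratl_alt hn (hR.of_equiv e)
  · exact not_ratl_psl h
  · exact not_ratl_isPSp h
  · exact not_ratl_isPSU h
  · exact not_ratl_isOdd h
  · exact not_ratl_isPlus h
  · exact not_ratl_isMinus h
  · exact not_ratl_exc h
  · exact not_ratl_spor h

/-- A nontrivial finite group has a simple quotient. -/
theorem exists_simple_quotient (G : Type u) [Group G] [Finite G] [Nontrivial G] :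
    ∃ M : Subgroup G, ∃ _ : M.Normal, IsSimpleGroup (G ⧸ M) := by
  classical
  obtain ⟨M, hM, hmax⟩ : ∃ M : Subgroup G, (M.Normal ∧ M ≠ ⊤) ∧
      ∀ N : Subgroup G, N.Normal ∧ N ≠ ⊤ → M ≤ N → N = M := by
    have hfin : Set.Finite {N : Subgroup G | N.Normal ∧ N ≠ ⊤} := Set.toFinite _
    obtain ⟨M, hM⟩ := hfin.exists_maximal ⟨⊥, Subgroup.normal_bot, bot_ne_top⟩
    exact ⟨M, hM.1, fun N hN hMN => le_antisymm (hM.2 hN hMN) hMN⟩
  have := hM.1
  refine ⟨M, hM.1, ?_⟩
  have hnt : Nontrivial (G ⧸ M) := by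
    rw [QuotientGroup.nontrivial_iff]
    exact hM.2
  refine ⟨fun H hH => ?_⟩
  have h1 : (H.comap (QuotientGroup.mk' M)).Normal := hH.comap _
  have hle : M ≤ H.comap (QuotientGroup.mk' M) := by
    intro x hx
    rw [Subgroup.mem_comap, QuotientGroup.mk'_apply, (QuotientGroup.eq_one_iff x).2 hx]
    exact H.one_mem
  by_cases h2 : H.comap (QuotientGroup.mk' M) = ⊤
  · right
    rw [eq_top_iff]
    intro y _
    obtain ⟨x, rfl⟩ := QuotientGroup.mk'_surjective M y
    have : x ∈ H.comap (QuotientGroup.mk' M) := by rw [h2]; exact Subgroup.mem_top x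
    exact this
  · left
    have h3 := hmax _ ⟨h1, h2⟩ hle
    rw [eq_bot_iff]
    intro y hy
    obtain ⟨x, rfl⟩ := QuotientGroup.mk'_surjective M y
    have : x ∈ H.comap (QuotientGroup.mk' M) := hy
    rw [h3] at this
    rw [Subgroup.mem_bot]
    exact (QuotientGroup.eq_one_iff x).2 this

theorem map_commutator_of_surjective_top {G H : Type*} [Group G] [Group H] (f : G →* H)
    (hf : Function.Surjective f) (h : commutator G = ⊤) : commutator H = ⊤ := by
  have h1 : (commutator G).map f = commutator H := by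
    rw [commutator_def, Subgroup.map_commutator, Subgroup.map_top_of_surjective f hf, commutator_def]
  rw [← h1, h, Subgroup.map_top_of_surjective f hf]

/-- **A finite group with distinct nonlinear character degrees is not perfect.** -/
theorem DD.not_perfect {G : Type u} [Group G] [Finite G] [Nontrivial G]
    (hK : ∀ (S : Type u) [Group S] [Finite S] [IsSimpleGroup S], IsKnownSimple' S) (h : DD G) :
    commutator G ≠ ⊤ := by
  intro hp
  obtain ⟨M, hM, hs⟩ := exists_simple_quotient G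
  have h1 : DD (G ⧸ M) := h.quotient M
  have h2 : commutator (G ⧸ M) = ⊤ := by
    have h3 := map_commutator_of_surjective_top (QuotientGroup.mk' M) (QuotientGroup.mk'_surjective M) hp
    exact h3
  refine not_ratl_known ?_ (hK _) (h1.ratl h2)
  intro hprime
  have : Fact (Nat.card (G ⧸ M)).Prime := ⟨hprime⟩
  have hcyc : IsCyclic (G ⧸ M) := isCyclic_of_prime_card rfl
  have hcomm : commutator (G ⧸ M) = ⊥ := by
    rw [commutator_def, Subgroup.commutator_eq_bot_iff_le_centralizer]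
    intro x _
    rw [Subgroup.mem_centralizer_iff]
    intro y _
    have hc : IsMulCommutative (G ⧸ M) := IsCyclic.isMulCommutative
    exact hc.is_comm.comm y x
  rw [hcomm] at h2
  exact bot_ne_top h2

end Cfsg.Agent.H689
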