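import Cfsg.Agent.Characters.Core
import Cfsg.Agent.PermChar.SymAlt

/-!
# Characters of matrix representations
-/

set_option autoImplicit false

open scoped ComplexConjugate
open Cfsg Cfsg.Agent.Characters Representation Module

namespace Cfsg.Agent.H689.MatRep

variable {G : Type*} [Group G] {ι κ : Type*} [Fintype ι] [DecidableEq ι] [Fintype κ] [DecidableEq κ]

/-- The representation given by matrices. -/
noncomputable def rep (ρ : G →* Matrix ι ι ℂ) : Representation ℂ G (ι → ℂ) where
  toFun g := Matrix.toLin' (ρ g)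
  map_one' := by rw [map_one, Matrix.toLin'_one]; rfl
  map_mul' g h := by rw [map_mul, Matrix.toLin'_mul]; rfl

theorem isCharacter (ρ : G →* Matrix ι ι ℂ) : IsCharacter G (fun g => (ρ g).trace) := by
  have h := Core.isCharacter_of_rep (rep ρ)
  have h2 : (rep ρ).character = fun g => (ρ g).trace := by
    funext g
    show LinearMap.trace ℂ (ι → ℂ) (Matrix.toLin' (ρ g)) = _
    rw [Matrix.trace_toLin'_eq]
  rwa [h2] at h

/-- The part of a representation cut out by a commuting idempotent. -/
theorem isCharacter_idem {V : Type*} [AddCommGroup V] [Module ℂ V] [FiniteDimensional ℂ V]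
    (ρ : Representation ℂ G V) (E : Module.End ℂ V) (hE : E * E = E) (hc : ∀ g, E * ρ g = ρ g * E) :
    IsCharacter G (fun g => LinearMap.trace ℂ V (ρ g * E)) := by
  let W : Submodule ℂ V := LinearMap.range E
  have hW : ∀ w ∈ W, E w = w := by
    rintro w ⟨x, rfl⟩
    rw [← Module.End.mul_apply, hE]
  have hg : ∀ (g : G) (w : V), w ∈ W → ρ g w ∈ W := by
    rintro g w ⟨x, rfl⟩
    refine ⟨ρ g x, ?_⟩
    rw [← Module.End.mul_apply, hc, Module.End.mul_apply]
  let σ : Representation ℂ G W :=
    { toFun := fun g => (ρ g).restrict (hg g)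
      map_one' := by
        apply LinearMap.ext
        intro w
        apply Subtype.ext
        show ρ 1 (w : V) = w
        rw [map_one]
        rfl
      map_mul' := by
        intro g h
        apply LinearMap.ext
        intro w
        apply Subtype.ext
        show ρ (g * h) (w : V) = ρ g (ρ h (w : V))
        rw [map_mul]
        rfl }
  have hσ : σ.character = fun g => LinearMap.trace ℂ V (ρ g * E) := by
    funext g
    have hmem : ∀ x, (ρ g * E) x ∈ W := by
      intro x
      rw [Module.End.mul_apply]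
      exact hg g _ ⟨x, rfl⟩
    have h1 : σ g = (ρ g * E).restrict (fun v _ => hmem v) := by
      apply LinearMap.ext
      intro w
      apply Subtype.ext
      show ρ g (w : V) = ρ g (E (w : V))
      rw [hW _ w.2]
    show LinearMap.trace ℂ W (σ g) = _
    rw [h1, PermChar.SymAlt.trace_restrict]
  rw [← hσ]
  exact Core.isCharacter_of_rep σ

theorem isCharacter_sub (ρ : G →* Matrix ι ι ℂ) (σ : G →* Matrix κ κ ℂ) (U : Matrix ι κ ℂ)
    (W : Matrix κ ι ℂ) (hWU : W * U = 1) (hU : ∀ g, U * σ g = ρ g * U) (hW : ∀ g, W * ρ g = σ g * W) :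
    IsCharacter G (fun g => (ρ g).trace - (σ g).trace) := by
  have h1 : (1 - U * W) * (1 - U * W) = 1 - U * W := by
    rw [sub_mul, mul_sub, mul_sub, one_mul, mul_one, one_mul, Matrix.mul_assoc U W, ← Matrix.mul_assoc W,
      hWU, Matrix.one_mul]
    abel
  have h2 : ∀ g, (1 - U * W) * ρ g = ρ g * (1 - U * W) := by
    intro g
    rw [sub_mul, mul_sub, one_mul, mul_one, Matrix.mul_assoc U, hW, ← Matrix.mul_assoc U, hU,
      Matrix.mul_assoc (ρ g)]
  have h3 := isCharacter_idem (rep ρ) (Matrix.toLin' (1 - U * W))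
    (by rw [Module.End.mul_eq_comp, ← Matrix.toLin'_mul, h1])
    (by
      intro g
      show Matrix.toLin' _ * Matrix.toLin' (ρ g) = Matrix.toLin' (ρ g) * Matrix.toLin' _
      rw [Module.End.mul_eq_comp, Module.End.mul_eq_comp, ← Matrix.toLin'_mul, ← Matrix.toLin'_mul, h2])
  have h4 : (fun g => LinearMap.trace ℂ (ι → ℂ) (rep ρ g * Matrix.toLin' (1 - U * W))) =
      fun g => (ρ g).trace - (σ g).trace := by
    funext g
    show LinearMap.trace ℂ (ι → ℂ) (Matrix.toLin' (ρ g) * Matrix.toLin' (1 - U * W)) = _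
    rw [Module.End.mul_eq_comp, ← Matrix.toLin'_mul, Matrix.trace_toLin'_eq, mul_sub, mul_one,
      Matrix.trace_sub, ← Matrix.mul_assoc, ← hU, Matrix.mul_assoc, Matrix.trace_mul_comm U,
      Matrix.mul_assoc, hWU, Matrix.mul_one]
  rwa [h4] at h3

/-- A multiplicative family of matrices whose commutant consists of scalars has norm one. -/
theorem sum_trace_mul_trace [Fintype G] (ρ : G → Matrix ι ι ℂ) (hm : ∀ g h, ρ g * ρ h = ρ (g * h))
    (ht : (ρ 1).trace ≠ 0)
    (hc : ∀ T : Matrix ι ι ℂ, (∀ g, ρ g * T = T * ρ g) → ρ 1 * T = T → ∃ c : ℂ, T = c • ρ 1) :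
    ∑ g : G, (ρ g).trace * (ρ g⁻¹).trace = (Fintype.card G : ℂ) := by
  classical
  have key : ∀ i j : ι, ∃ c : ℂ, ∑ g : G, ρ g * Matrix.single i j (1 : ℂ) * ρ g⁻¹ = c • ρ 1 := by
    intro i j
    refine hc _ ?_ ?_
    · intro h
      rw [Finset.mul_sum, Finset.sum_mul]
      refine Fintype.sum_equiv (Equiv.mulLeft h) _ _ fun g => ?_
      show ρ h * (ρ g * Matrix.single i j 1 * ρ g⁻¹) = ρ (h * g) * Matrix.single i j 1 * ρ (h * g)⁻¹ * ρ h
      rw [Matrix.mul_assoc (ρ (h * g) * _), hm, mul_inv_rev, inv_mul_cancel_right, ← hm h g,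
        ← Matrix.mul_assoc, ← Matrix.mul_assoc]
    · rw [Finset.mul_sum]
      refine Finset.sum_congr rfl fun g _ => ?_
      rw [← Matrix.mul_assoc, ← Matrix.mul_assoc, hm, one_mul]
  choose c hcc using key
  have hcv : ∀ i j : ι, c i j * (ρ 1).trace = (Fintype.card G : ℂ) * ρ 1 j i := by
    intro i j
    have h1 := congrArg Matrix.trace (hcc i j)
    rw [Matrix.trace_smul, Matrix.trace_sum, smul_eq_mul] at h1
    rw [← h1]
    have h2 : ∀ g : G, (ρ g * Matrix.single i j (1 : ℂ) * ρ g⁻¹).trace = ρ 1 j i := by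
      intro g
      rw [Matrix.mul_assoc, Matrix.trace_mul_comm, Matrix.mul_assoc, hm, inv_mul_cancel,
        Matrix.trace_single_mul, one_smul]
    rw [Finset.sum_congr rfl fun g _ => h2 g, Finset.sum_const, Finset.card_univ, nsmul_eq_mul]
  have hent : ∀ i j : ι, ∑ g : G, ρ g i i * ρ g⁻¹ j j = c i j * ρ 1 i j := by
    intro i j
    have h1 := congrFun (congrFun (hcc i j) i) j
    rw [Matrix.sum_apply, Matrix.smul_apply, smul_eq_mul] at h1
    rw [← h1]
    refine Finset.sum_congr rfl fun g _ => ?_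
    rw [Matrix.mul_apply, Finset.sum_eq_single j]
    · rw [Matrix.mul_single_apply_same, mul_one]
    · intro k _ hk
      rw [Matrix.mul_single_apply_of_ne _ _ _ _ _ hk, zero_mul]
    · intro h
      exact absurd (Finset.mem_univ _) h
  have h5 : ∑ g : G, (ρ g).trace * (ρ g⁻¹).trace = ∑ i, ∑ j, c i j * ρ 1 i j := by
    rw [← Finset.sum_congr rfl fun i _ => Finset.sum_congr rfl fun j _ => hent i j]
    rw [Finset.sum_congr rfl fun i _ => Finset.sum_comm, Finset.sum_comm]
    refine Finset.sum_congr rfl fun g _ => ?_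
    rw [Matrix.trace, Matrix.trace, Finset.sum_mul_sum]
    rfl
  have h6 : (∑ i, ∑ j, c i j * ρ 1 i j) * (ρ 1).trace = (Fintype.card G : ℂ) * (ρ 1).trace := by
    have h7 : (ρ 1 * ρ 1).trace = (ρ 1).trace := by rw [hm, one_mul]
    rw [Matrix.trace, Matrix.trace] at h7
    simp only [Matrix.diag_apply, Matrix.mul_apply] at h7
    rw [Finset.sum_mul]
    rw [show (Fintype.card G : ℂ) * (ρ 1).trace = ∑ i, ∑ j, (Fintype.card G : ℂ) * (ρ 1 i j * ρ 1 j i) by
      rw [Matrix.trace]
      simp only [Matrix.diag_apply]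
      rw [← h7, Finset.mul_sum]
      refine Finset.sum_congr rfl fun i _ => ?_
      rw [Finset.mul_sum]]
    refine Finset.sum_congr rfl fun i _ => ?_
    rw [Finset.sum_mul]
    refine Finset.sum_congr rfl fun j _ => ?_
    linear_combination (ρ 1 i j) * hcv i j
  rw [h5]
  exact mul_right_cancel₀ ht h6

end Cfsg.Agent.H689.MatRep
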