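import Cfsg.Agent.H689.Sp6Frame
import Cfsg.Agent.H689.MatRep
import Cfsg.Agent.SporRec.Co3.Mat

/-!
# The exterior square of the seven-dimensional representation of `Sp₆(2)` is irreducible
-/

set_option autoImplicit false

open Cfsg.Agent.SporRec.TwoSp6.Sp Cfsg.Agent.H689.MatRep

namespace Cfsg.Agent.H689.Sp6

attribute [local irreducible] act Cfsg.sympForm

/-! ### elements -/

/-- The codes of the vectors of the frame. -/
def kc (i : Fin 7) : ℕ := [7, 4, 2, 5, 1, 3, 6].getD i.val 0

/-- The transvections of the frame. -/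
def tv (j : Fin 7) : S := tr (enc (kc j))

theorem act_tv (j : Fin 7) (x : V) : act (tv j) x = x + om x (enc (kc j)) • enc (kc j) := act_tr _ _

theorem qN_kc : ∀ j : Fin 7, qN (kc j) = false := by decide

theorem qf_kc (j : Fin 7) : qf (enc (kc j)) = 0 := by
  rw [qf_enc, qN_kc]
  rfl

theorem om_smul_self (c : ZMod 2) (u v : V) : om u (c • v) = c * om u v := by
  rw [om_eq, om_eq]
  simp only [Pi.smul_apply, smul_eq_mul]
  ring

theorem cg_tv (j : Fin 7) : cg (tv j) = enc (kc j) := by
  apply cg_eq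
  intro x
  rcases om_cases x (enc (kc j)) with h | h
  · rw [act_tv, h, zero_smul, add_zero, h, add_zero]
  · have h1 : om (enc (kc j)) (enc (kc j)) = 0 := om_self _
    rw [act_tv, h, one_smul, qf_add, om_add_left, h, h1, qf_kc]
    ring

theorem smul_tv_of_one (j : Fin 7) (a : Z) (h : om (a : V) (enc (kc j)) = 1) : tv j • a = a := by
  apply Subtype.ext
  rw [coe_smul, aff, act_tv, cg_tv, h, one_smul, add_assoc, add_self, add_zero]

theorem coe_smul_tv_of_zero (j : Fin 7) (a : Z) (h : om (a : V) (enc (kc j)) = 0) :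
    ((tv j • a : Z) : V) = (a : V) + enc (kc j) := by
  rw [coe_smul, aff, act_tv, cg_tv, h, zero_smul, add_zero]

theorem code_xor (a : Z) (j : Fin 7) :
    code ((a : V) + enc (kc j)) = (⟨(code a.1).val ^^^ kc j, by
      have h1 := (code a.1).2
      have h2 : kc j < 64 := by revert j; decide
      exact Nat.xor_lt_two_pow (n := 6) h1 h2⟩ : Fin 64) := by
  have h1 := code_enc ⟨(code a.1).val ^^^ kc j, by
      have h1 := (code a.1).2
      have h2 : kc j < 64 := by revert j; decide
      exact Nat.xor_lt_two_pow (n := 6) h1 h2⟩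
  rw [← h1]
  congr 1
  show _ = enc ((code a.1).val ^^^ kc j)
  rw [enc_xor, enc_code]

theorem fN_tv_one : ∀ c : Fin 64, ∀ j : Fin 7, qN c → fN c (kc j) = true → uN c j = 0 := by decide +kernel

theorem fN_tv_zero : ∀ c : Fin 64, ∀ j i : Fin 7, qN c → fN c (kc j) = false →
    uN c i = uN (c.val ^^^ kc j) i * (if i = j then 1 else -1) := by decide +kernel

theorem om_code (a : Z) (j : Fin 7) : om (a : V) (enc (kc j)) = if fN (code a.1) (kc j) then 1 else 0 := by
  rw [← om_enc, enc_code]

theorem Rm_tv (j : Fin 7) : Rm (tv j) = mono id (fun i => if i = j then 1 else -1) := by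
  apply Rm_eq
  intro a i
  rcases om_cases (a : V) (enc (kc j)) with h | h
  · have hf : fN (code a.1) (kc j) = false := by
      by_contra hcon
      rw [Bool.not_eq_false] at hcon
      rw [om_code, hcon] at h
      exact absurd h (by decide)
    have h1 : eps (tv j) a = 1 := by
      unfold eps
      have h2 : om (enc (kc j)) (enc (kc j)) = 0 := om_self _
      rw [coe_smul_tv_of_zero j a h, cg_tv, om_add_left, h, h2]
      rfl
    rw [h1, one_mul]
    show uN (code a.1) i = uN (code ((tv j • a : Z) : V)) i * _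
    rw [coe_smul_tv_of_zero j a h, code_xor]
    exact fN_tv_zero (code a.1) j i (qN_code a) hf
  · have hf : fN (code a.1) (kc j) = true := by
      by_contra hcon
      rw [Bool.not_eq_true] at hcon
      rw [om_code, hcon] at h
      exact absurd h (by decide)
    have h1 : eps (tv j) a = -1 := by
      unfold eps
      rw [smul_tv_of_one j a h, cg_tv, h]
      rfl
    rw [h1, smul_tv_of_one j a h]
    by_cases hij : i = j
    · subst hij
      have h2 : U a i = 0 := fN_tv_one (code a.1) i (qN_code a) hf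
      simp [h2]
    · simp [hij]

/-- A Singer cycle. -/
def sg : S := ⟨Cfsg.Agent.SporRec.Co3.V !![1, 1, 0; 1, 0, 1; 0, 1, 0] !![1, 0, 1; 0, 0, 1; 1, 1, 1],
  Cfsg.Agent.SporRec.Co3.V_mem (by decide)⟩

/-- A Frobenius map. -/
def fr : S := ⟨Cfsg.Agent.SporRec.Co3.V !![0, 1, 0; 0, 0, 1; 1, 0, 0] !![0, 1, 0; 0, 0, 1; 1, 0, 0],
  Cfsg.Agent.SporRec.Co3.V_mem (by decide)⟩

/-- The Singer cycle on codes. -/
def sC (c : ℕ) : ℕ := [0, 3, 5, 6, 2, 1, 7, 4, 40, 43, 45, 46, 42, 41, 47, 44, 32, 35, 37, 38, 34, 33, 39, 36, 8,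
  11, 13, 14, 10, 9, 15, 12, 56, 59, 61, 62, 58, 57, 63, 60, 16, 19, 21, 22, 18, 17, 23, 20, 24, 27, 29, 30, 26,
  25, 31, 28, 48, 51, 53, 54, 50, 49, 55, 52].getD c 0

/-- The Frobenius map on codes. -/
def fC (c : ℕ) : ℕ := [0, 4, 1, 5, 2, 6, 3, 7, 32, 36, 33, 37, 34, 38, 35, 39, 8, 12, 9, 13, 10, 14, 11, 15, 40,
  44, 41, 45, 42, 46, 43, 47, 16, 20, 17, 21, 18, 22, 19, 23, 48, 52, 49, 53, 50, 54, 51, 55, 24, 28, 25, 29,
  26, 30, 27, 31, 56, 60, 57, 61, 58, 62, 59, 63].getD c 0

theorem act_sg : ∀ c : Fin 64, act sg (enc c) = enc (sC c) := by decide +kernel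

theorem act_fr : ∀ c : Fin 64, act fr (enc c) = enc (fC c) := by decide +kernel

theorem sC_lt : ∀ c : Fin 64, sC c < 64 := by decide
theorem fC_lt : ∀ c : Fin 64, fC c < 64 := by decide

theorem qN_sC : ∀ c : Fin 64, qN (sC c) = qN c := by decide
theorem qN_fC : ∀ c : Fin 64, qN (fC c) = qN c := by decide

theorem om_zero_right (v : V) : om v 0 = 0 := by
  rw [show (0 : V) = v + v from (add_self v).symm, om_add_right, z2_add_self]

/-- Elements preserving the form act by permutations. -/
theorem Rm_of_table (g : S) (t : ℕ → ℕ) (p : Fin 7 → Fin 7) (ha : ∀ c : Fin 64, act g (enc c) = enc (t c))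
    (hlt : ∀ c : Fin 64, t c < 64) (hq : ∀ c : Fin 64, qN (t c) = qN c)
    (hu : ∀ (c : Fin 64) (i : Fin 7), qN c → uN c i = uN (t c) (p i)) : Rm g = mono p (fun _ => 1) := by
  have hcg : cg g = 0 := by
    apply cg_eq
    intro v
    rw [om_zero_right, add_zero, ← enc_code v, ha, qf_enc, qf_enc, hq]
  apply Rm_eq
  intro a i
  have h1 : eps g a = 1 := by
    unfold eps
    rw [hcg, om_zero_right]
    rfl
  have h2 : ((g • a : Z) : V) = enc (t (code a.1)) := by
    rw [coe_smul, aff, hcg, add_zero]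
    conv_lhs => rw [← enc_code a.1]
    exact ha _
  rw [h1, one_mul, mul_one]
  show uN (code a.1) i = uN (code ((g • a : Z) : V)) (p i)
  have h3 := code_enc ⟨t (code a.1), hlt _⟩
  rw [h2]
  show _ = uN (code (enc (⟨t (code a.1), hlt _⟩ : Fin 64))) (p i)
  rw [h3]
  exact hu _ i (qN_code a)

theorem Rm_sg : Rm sg = mono (fun i => i + 1) (fun _ => 1) :=
  Rm_of_table sg sC _ act_sg sC_lt qN_sC (by decide +kernel)

theorem Rm_fr : Rm fr = mono (fun i => 2 * i) (fun _ => 1) :=
  Rm_of_table fr fC _ act_fr fC_lt qN_fC (by decide +kernel)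

/-! ### the commutant -/

open Matrix

/-- The projection onto the alternating tensors. -/
noncomputable def alt : Matrix (Fin 7 × Fin 7) (Fin 7 × Fin 7) ℂ := fun x y =>
  (2 : ℂ)⁻¹ * ((if x = y then 1 else 0) - (if x = y.swap then 1 else 0))

/-- The tensor square. -/
noncomputable def ts (A : Matrix (Fin 7) (Fin 7) ℂ) : Matrix (Fin 7 × Fin 7) (Fin 7 × Fin 7) ℂ :=
  fun x y => A x.1 y.1 * A x.2 y.2

theorem ts_mul (A B : Matrix (Fin 7) (Fin 7) ℂ) : ts A * ts B = ts (A * B) := by
  ext x y
  rw [mul_apply, Fintype.sum_prod_type]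
  simp only [ts, mul_apply]
  rw [Finset.sum_mul_sum]
  refine Finset.sum_congr rfl fun i _ => Finset.sum_congr rfl fun j _ => ?_
  ring

theorem mul_alt_apply (T : Matrix (Fin 7 × Fin 7) (Fin 7 × Fin 7) ℂ) (x y : Fin 7 × Fin 7) :
    (T * alt) x y = (2 : ℂ)⁻¹ * (T x y - T x y.swap) := by
  rw [mul_apply]
  simp only [alt, mul_sub, mul_ite, mul_one, mul_zero, Finset.sum_sub_distrib, Finset.sum_ite_eq',
    Finset.mem_univ, if_true]
  ring

theorem alt_mul_apply (T : Matrix (Fin 7 × Fin 7) (Fin 7 × Fin 7) ℂ) (x y : Fin 7 × Fin 7) :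
    (alt * T) x y = (2 : ℂ)⁻¹ * (T x y - T x.swap y) := by
  have h : ∀ z : Fin 7 × Fin 7, x = z.swap ↔ x.swap = z := by
    intro z
    constructor
    · rintro rfl
      exact Prod.swap_swap z
    · rintro rfl
      exact (Prod.swap_swap x).symm
  rw [mul_apply]
  simp only [alt, mul_sub, sub_mul, ite_mul, mul_ite, mul_one, mul_zero, zero_mul, h, Finset.sum_sub_distrib,
    Finset.sum_ite_eq, Finset.mem_univ, if_true]

theorem ts_mul_alt (A : Matrix (Fin 7) (Fin 7) ℂ) : ts A * alt = alt * ts A := by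
  ext x y
  rw [mul_alt_apply, alt_mul_apply]
  simp only [ts, Prod.fst_swap, Prod.snd_swap]
  ring

theorem alt_mul_alt : alt * alt = alt := by
  ext x y
  rw [mul_alt_apply]
  have h : (x = y.swap.swap) = (x = y) := by rw [Prod.swap_swap]
  simp only [alt, Prod.swap_swap]
  ring

theorem ts_one : ts 1 = 1 := by
  ext x y
  simp only [ts, one_apply, Prod.ext_iff]
  split_ifs <;> simp_all

/-- The exterior square, as a family of matrices. -/
noncomputable def r21 (g : S) : Matrix (Fin 7 × Fin 7) (Fin 7 × Fin 7) ℂ := ts (r7 g) * alt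

theorem r21_mul (g h : S) : r21 g * r21 h = r21 (g * h) := by
  rw [r21, r21, r21, map_mul, ← ts_mul, Matrix.mul_assoc, ← Matrix.mul_assoc alt, ← ts_mul_alt,
    Matrix.mul_assoc, alt_mul_alt, Matrix.mul_assoc]

theorem r21_one : r21 1 = alt := by
  rw [r21, map_one, ts_one, Matrix.one_mul]

theorem ts_r7 (g : S) : ts (r7 g) = ts (Rm g) := by
  ext x y
  simp only [ts, r7_apply, Matrix.smul_apply, smul_eq_mul]
  linear_combination (Rm g x.1 y.1 * Rm g x.2 y.2) * dl_mul_self g

theorem trace_alt : alt.trace = 21 := by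
  rw [Matrix.trace]
  simp only [diag_apply, alt, if_true]
  rw [← Finset.mul_sum, Finset.sum_sub_distrib]
  have h : ∑ x : Fin 7 × Fin 7, (if x = x.swap then (1 : ℂ) else 0) = 7 := by
    rw [Finset.sum_ite, Finset.sum_const_zero, add_zero, Finset.sum_const]
    have : (Finset.univ.filter fun x : Fin 7 × Fin 7 => x = x.swap).card = 7 := by decide
    rw [this]
    norm_num
  rw [h]
  simp
  norm_num

theorem trace_r21 (g : S) : (r21 g).trace = ((r7 g).trace ^ 2 - (r7 (g * g)).trace) / 2 := by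
  rw [Matrix.trace]
  simp only [diag_apply, r21]
  simp only [mul_alt_apply]
  rw [← Finset.mul_sum, Finset.sum_sub_distrib]
  have h1 : ∑ x : Fin 7 × Fin 7, ts (r7 g) x x = (r7 g).trace ^ 2 := by
    rw [Fintype.sum_prod_type, Matrix.trace, pow_two, Finset.sum_mul_sum]
    rfl
  have h2 : ∑ x : Fin 7 × Fin 7, ts (r7 g) x x.swap = (r7 (g * g)).trace := by
    rw [Fintype.sum_prod_type, map_mul, Matrix.trace]
    simp only [diag_apply, mul_apply]
    rfl
  rw [h1, h2]
  ring

theorem ts_mono_mul (p : Fin 7 → Fin 7) (hp : Function.Injective p) (k : Fin 7 → ℤ)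
    (T : Matrix (Fin 7 × Fin 7) (Fin 7 × Fin 7) ℂ) (i j : Fin 7) (y : Fin 7 × Fin 7) :
    (ts (mono p k) * T) (p i, p j) y = (k i : ℂ) * k j * T (i, j) y := by
  rw [mul_apply, Finset.sum_eq_single (i, j)]
  · simp [ts, mono]
  · rintro ⟨a, b⟩ _ hab
    simp only [ts, mono]
    by_cases h1 : p i = p a
    · by_cases h2 : p j = p b
      · exact absurd (by rw [hp h1, hp h2]) hab
      · rw [if_neg h2, mul_zero, zero_mul]
    · rw [if_neg h1, zero_mul, zero_mul]
  · intro hc
    exact absurd (Finset.mem_univ _) hc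

theorem mul_ts_mono (p : Fin 7 → Fin 7) (k : Fin 7 → ℤ)
    (T : Matrix (Fin 7 × Fin 7) (Fin 7 × Fin 7) ℂ) (x : Fin 7 × Fin 7) (i j : Fin 7) :
    (T * ts (mono p k)) x (i, j) = T x (p i, p j) * (k i * k j) := by
  rw [mul_apply, Finset.sum_eq_single (p i, p j)]
  · simp [ts, mono]
  · rintro ⟨a, b⟩ _ hab
    simp only [ts, mono]
    by_cases h1 : a = p i
    · by_cases h2 : b = p j
      · exact absurd (by rw [h1, h2]) hab
      · rw [if_neg h2, mul_zero, mul_zero]
    · rw [if_neg h1, zero_mul, mul_zero]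
  · intro hc
    exact absurd (Finset.mem_univ _) hc

/-- A symmetric function on pairs invariant under translations and doubling is constant. -/
theorem const_of_invariant (t : Fin 7 → Fin 7 → ℂ) (h1 : ∀ i j, t (i + 1) (j + 1) = t i j)
    (h2 : ∀ i j, t (2 * i) (2 * j) = t i j) (h3 : ∀ i j, t j i = t i j) (i j : Fin 7) (hij : i ≠ j) :
    t i j = t 0 1 := by
  have hn : ∀ (n : ℕ) (a b : Fin 7), t (a + n • 1) (b + n • 1) = t a b := by
    intro n
    induction n with
    | zero => intro a b; simp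
    | succ n ih =>
      intro a b
      rw [succ_nsmul, ← add_assoc, ← add_assoc, h1, ih]
  have hv : ∀ a : Fin 7, a.val • (1 : Fin 7) = a := by decide
  have hred : ∀ a b : Fin 7, t a b = t 0 (b - a) := by
    intro a b
    have := hn a.val 0 (b - a)
    rw [hv, zero_add, sub_add_cancel] at this
    exact this
  have e2 : t 0 2 = t 0 1 := h2 0 1
  have e4 : t 0 4 = t 0 2 := h2 0 2
  have e6 : t 0 6 = t 0 1 := by
    rw [← h3 0 1, hred 1 0]
    rfl
  have e5 : t 0 5 = t 0 6 := h2 0 6
  have e3 : t 0 3 = t 0 5 := h2 0 5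
  rw [hred i j]
  have hd : j - i ≠ 0 := sub_ne_zero.2 (Ne.symm hij)
  generalize j - i = d at hd
  fin_cases d
  · exact absurd rfl hd
  · rfl
  · exact e2
  · exact e3.trans (e5.trans e6)
  · exact e4.trans e2
  · exact e5.trans e6
  · exact e6

theorem commutant (T : Matrix (Fin 7 × Fin 7) (Fin 7 × Fin 7) ℂ) (hT : ∀ g, r21 g * T = T * r21 g)
    (h1 : r21 1 * T = T) : ∃ c : ℂ, T = c • r21 1 := by
  have hT1 := hT 1
  rw [r21_one] at h1 hT1 ⊢
  have hr : T * alt = T := by rw [← hT1, h1]
  have hcomm : ∀ g, ts (Rm g) * T = T * ts (Rm g) := by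
    intro g
    have h2 := hT g
    rw [r21, ts_r7, Matrix.mul_assoc, h1, ts_mul_alt, ← Matrix.mul_assoc, hr] at h2
    exact h2
  have hsl : ∀ x y, T x.swap y = -T x y := by
    intro x y
    have h2 := congrFun (congrFun h1 x) y
    rw [alt_mul_apply] at h2
    linear_combination 2 * (-h2)
  have hsr : ∀ x y, T x y.swap = -T x y := by
    intro x y
    have h2 := congrFun (congrFun hr x) y
    rw [mul_alt_apply] at h2
    linear_combination 2 * (-h2)
  have hmono : ∀ (g : S) (p : Fin 7 → Fin 7) (k : Fin 7 → ℤ), Function.Injective p → Rm g = mono p k →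
      ∀ i j m l : Fin 7, (k i : ℂ) * k j * T (i, j) (m, l) = T (p i, p j) (p m, p l) * (k m * k l) := by
    intro g p k hp hg i j m l
    have h2 := congrFun (congrFun (hcomm g) (p i, p j)) (m, l)
    rw [hg, ts_mono_mul p hp, mul_ts_mono] at h2
    exact h2
  have hz : ∀ i j m l : Fin 7, i ≠ j → i ≠ m → i ≠ l → T (i, j) (m, l) = 0 := by
    intro i j m l hij him hil
    have h2 := hmono (tv i) id _ Function.injective_id (Rm_tv i) i j m l
    rw [if_pos rfl, if_neg (Ne.symm hij), if_neg (Ne.symm him), if_neg (Ne.symm hil)] at h2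
    simp only [id] at h2
    push_cast at h2
    linear_combination (-1 / 2 : ℂ) * h2
  have hdiag : ∀ i j : Fin 7, i ≠ j → T (i, j) (i, j) = T (0, 1) (0, 1) := by
    refine const_of_invariant (fun i j => T (i, j) (i, j)) ?_ ?_ ?_
    · intro i j
      have h2 := hmono sg _ _ (by decide) Rm_sg i j i j
      simp only [Int.cast_one, one_mul, mul_one] at h2
      exact h2.symm
    · intro i j
      have h2 := hmono fr _ _ (by decide) Rm_fr i j i j
      simp only [Int.cast_one, one_mul, mul_one] at h2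
      exact h2.symm
    · intro i j
      have h2 := hsl (i, j) (j, i)
      have h3 := hsr (i, j) (i, j)
      simp only [Prod.swap_prod_mk] at h2 h3
      show T (j, i) (j, i) = T (i, j) (i, j)
      rw [h2, h3, neg_neg]
  refine ⟨2 * T (0, 1) (0, 1), ?_⟩
  ext ⟨i, j⟩ ⟨m, l⟩
  rw [Matrix.smul_apply, smul_eq_mul]
  by_cases hij : i = j
  · subst hij
    have h2 := hsl (i, i) (m, l)
    simp only [Prod.swap_prod_mk] at h2
    have h3 : T (i, i) (m, l) = 0 := by linear_combination (1 / 2 : ℂ) * h2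
    rw [h3]
    have h4 : ((i, i) = ((m, l) : Fin 7 × Fin 7)) = ((i, i) = ((m, l) : Fin 7 × Fin 7).swap) := by
      simp only [Prod.swap_prod_mk, Prod.mk.injEq]
      exact propext ⟨fun h => ⟨h.2, h.1⟩, fun h => ⟨h.2, h.1⟩⟩
    simp only [alt, h4, sub_self, mul_zero]
  by_cases hml : m = l
  · subst hml
    have h2 := hsr (i, j) (m, m)
    simp only [Prod.swap_prod_mk] at h2
    have h3 : T (i, j) (m, m) = 0 := by linear_combination (1 / 2 : ℂ) * h2
    rw [h3]
    simp only [alt, Prod.swap_prod_mk, sub_self, mul_zero]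
  by_cases h5 : i = m
  · subst h5
    by_cases h6 : j = l
    · subst h6
      rw [hdiag i j hij]
      have h7 : ¬ ((i, j) = ((i, j) : Fin 7 × Fin 7).swap) := by
        simp only [Prod.swap_prod_mk, Prod.mk.injEq]
        exact fun h => hij h.1
      simp only [alt, h7, if_true, if_false]
      ring
    · have h8 : T (j, i) (i, l) = 0 := hz j i i l (Ne.symm hij) (Ne.symm hij) h6
      have h9 := hsl (j, i) (i, l)
      simp only [Prod.swap_prod_mk] at h9
      rw [h9, h8]
      have h7 : ¬ ((i, j) = ((i, l) : Fin 7 × Fin 7)) := by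
        simp only [Prod.mk.injEq]
        exact fun h => h6 h.2
      have h10 : ¬ ((i, j) = ((i, l) : Fin 7 × Fin 7).swap) := by
        simp only [Prod.swap_prod_mk, Prod.mk.injEq]
        exact fun h => hml h.1
      simp only [alt, h7, h10, if_false]
      ring
  by_cases h6 : i = l
  · subst h6
    by_cases h7 : j = m
    · subst h7
      have h8 := hsr (i, j) (i, j)
      simp only [Prod.swap_prod_mk] at h8
      rw [h8, hdiag i j hij]
      have h9 : ¬ ((i, j) = ((j, i) : Fin 7 × Fin 7)) := by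
        simp only [Prod.mk.injEq]
        exact fun h => hij h.1
      simp only [alt, h9, Prod.swap_prod_mk, if_true, if_false]
      ring
    · have h8 : T (j, i) (m, i) = 0 := hz j i m i (Ne.symm hij) h7 (Ne.symm hij)
      have h9 := hsl (j, i) (m, i)
      simp only [Prod.swap_prod_mk] at h9
      rw [h9, h8]
      have h10 : ¬ ((i, j) = ((m, i) : Fin 7 × Fin 7)) := by
        simp only [Prod.mk.injEq]
        exact fun h => h5 h.1
      have h11 : ¬ ((i, j) = ((m, i) : Fin 7 × Fin 7).swap) := by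
        simp only [Prod.swap_prod_mk, Prod.mk.injEq]
        exact fun h => h7 h.2
      simp only [alt, h10, h11, if_false]
      ring
  rw [hz i j m l hij h5 h6]
  have h10 : ¬ ((i, j) = ((m, l) : Fin 7 × Fin 7)) := by
    simp only [Prod.mk.injEq]
    exact fun h => h5 h.1
  have h11 : ¬ ((i, j) = ((m, l) : Fin 7 × Fin 7).swap) := by
    simp only [Prod.swap_prod_mk, Prod.mk.injEq]
    exact fun h => h6 h.1
  simp only [alt, h10, h11, if_false]
  ring

theorem sum_r21 [Fintype S] : ∑ g : S, (r21 g).trace * (r21 g⁻¹).trace = (Fintype.card S : ℂ) :=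
  sum_trace_mul_trace r21 r21_mul (by rw [r21_one, trace_alt]; norm_num) commutant

end Cfsg.Agent.H689.Sp6
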