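import Cfsg.Agent.SporRec.TwoSp6.Sp

/-!
# A signed permutation representation of `Sp₆(2)` on 28 points

`S = Sp₆(2)` acts affinely on `V = F₂⁶` (the quadratic forms with the given polarization) with an orbit
`Z` of length 28; the monomial matrices `M g` form a representation up to the sign `ω`.
-/

set_option autoImplicit false

open Cfsg.Agent.SporRec.TwoSp6.Sp

namespace Cfsg.Agent.H689.Sp6

/-- The quadratic form. -/
def qf (v : V) : ZMod 2 :=
  v (Sum.inl 0) * v (Sum.inr 0) + v (Sum.inl 1) * v (Sum.inr 1) + v (Sum.inl 2) * v (Sum.inr 2)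

theorem om_eq (u v : V) : om u v =
    (u (Sum.inl 0) * v (Sum.inr 0) + u (Sum.inr 0) * v (Sum.inl 0)) +
    (u (Sum.inl 1) * v (Sum.inr 1) + u (Sum.inr 1) * v (Sum.inl 1)) +
    (u (Sum.inl 2) * v (Sum.inr 2) + u (Sum.inr 2) * v (Sum.inl 2)) := by
  show Cfsg.sympForm 3 (ZMod 2) _ _ = _
  rw [Cfsg.Agent.ClassicalGeometry.SympBasic.sympForm_eq_sum, Fin.sum_univ_three]
  simp only [CharTwo.sub_eq_add]
  ring

theorem qf_add (u v : V) : qf (u + v) = qf u + qf v + om u v := by
  rw [om_eq]
  unfold qf
  simp only [Pi.add_apply]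
  ring

theorem om_add_right (u v w : V) : om u (v + w) = om u v + om u w := by
  rw [om_eq, om_eq, om_eq]
  simp only [Pi.add_apply]
  ring

theorem om_add_left (u v w : V) : om (u + v) w = om u w + om v w := by
  rw [om_eq, om_eq, om_eq]
  simp only [Pi.add_apply]
  ring

theorem z2_add_self (a : ZMod 2) : a + a = 0 := CharTwo.add_self_eq_zero a

theorem z2_two : (2 : ZMod 2) = 0 := rfl

attribute [local irreducible] act Cfsg.sympForm

/-- An additive function on `V` is represented by a vector. -/
theorem exists_om_of_additive (l : V → ZMod 2) (hl : ∀ x y, l (x + y) = l x + l y) :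
    ∃ c : V, ∀ v, l v = om v c := by
  classical
  let L : V →+ ZMod 2 := AddMonoidHom.mk' l hl
  have hlin : ∀ v : V, l v = ∑ i, v i * l (Pi.single i 1) := by
    intro v
    have h1 : L v = ∑ i, L (Pi.single i (v i)) := by
      rw [← map_sum]
      congr 1
      exact (Finset.univ_sum_single v).symm
    have h2 : l v = ∑ i, l (Pi.single i (v i)) := h1
    rw [h2]
    refine Finset.sum_congr rfl fun i _ => ?_
    have hz : l 0 = 0 := map_zero L
    rcases (show v i = 0 ∨ v i = 1 by generalize v i = a; revert a; decide) with h | h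
    · rw [h, Pi.single_zero, zero_mul, hz]
    · rw [h, one_mul]
  refine ⟨Sum.elim (fun i => l (Pi.single (Sum.inr i) 1)) (fun i => l (Pi.single (Sum.inl i) 1)), fun v => ?_⟩
  rw [hlin v, om_eq, Fintype.sum_sum_type, Fin.sum_univ_three, Fin.sum_univ_three]
  simp only [Sum.elim_inl, Sum.elim_inr]
  ring

theorem om_nondeg {c d : V} (h : ∀ v, om v c = om v d) : c = d := by
  funext i
  rcases i with i | i
  · have := h (Pi.single (Sum.inr i) 1)
    rw [om_eq, om_eq] at this
    fin_cases i <;> simpa [Pi.single_apply] using this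
  · have := h (Pi.single (Sum.inl i) 1)
    rw [om_eq, om_eq] at this
    fin_cases i <;> simpa [Pi.single_apply] using this

theorem exists_cg (g : S) : ∃ c : V, ∀ v, qf (act g⁻¹ v) + qf v = om v c := by
  refine exists_om_of_additive (fun v => qf (act g⁻¹ v) + qf v) fun x y => ?_
  simp only [act_add, qf_add, act_om]
  linear_combination (om x y) * z2_two

/-- The cocycle. -/
noncomputable def cg (g : S) : V := (exists_cg g).choose

theorem cg_spec (g : S) (v : V) : qf (act g⁻¹ v) + qf v = om v (cg g) := (exists_cg g).choose_spec v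

theorem act_inv_act (g : S) (v : V) : act g⁻¹ (act g v) = v := by
  rw [← act_mul, inv_mul_cancel, act_one]

theorem act_act_inv (g : S) (v : V) : act g (act g⁻¹ v) = v := by
  rw [← act_mul, mul_inv_cancel, act_one]

theorem cg_spec' (g : S) (v : V) : qf (act g v) = qf v + om (act g v) (cg g) := by
  have := cg_spec g (act g v)
  rw [act_inv_act] at this
  rw [← this, ← add_assoc, z2_add_self, zero_add]

theorem cg_eq {g : S} {c : V} (h : ∀ v, qf (act g v) = qf v + om (act g v) c) : cg g = c := by
  apply om_nondeg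
  intro v
  have h1 := h (act g⁻¹ v)
  rw [act_act_inv] at h1
  rw [← cg_spec, h1, ← add_assoc, z2_add_self, zero_add]

theorem cg_mul (g h : S) : cg (g * h) = act g (cg h) + cg g := by
  apply cg_eq
  intro v
  rw [act_mul, cg_spec' g, cg_spec' h, om_add_right, act_om]
  ring

theorem cg_one : cg 1 = 0 := by
  apply cg_eq
  intro v
  rw [act_one, show (0 : V) = v + v from (add_self v).symm, om_add_right, z2_add_self, add_zero]

/-- The sign of an element of the field with two elements. -/
def sgn (a : ZMod 2) : ℤ := if a = 0 then 1 else -1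

theorem sgn_add : ∀ a b : ZMod 2, sgn (a + b) = sgn a * sgn b := by decide
theorem sgn_mul_self : ∀ a : ZMod 2, sgn a * sgn a = 1 := by decide
theorem sgn_zero : sgn 0 = 1 := rfl
theorem sgn_cases : ∀ a : ZMod 2, sgn a = 1 ∨ sgn a = -1 := by decide
theorem sgn_inj : ∀ {a b : ZMod 2}, sgn a = sgn b → a = b := by decide

theorem enc_bij : Function.Bijective (fun c : Fin 64 => enc c) := by
  rw [Fintype.bijective_iff_surjective_and_card]
  constructor
  · intro x
    obtain ⟨c, hc, h⟩ := exists_enc x
    exact ⟨⟨c, hc⟩, h.symm⟩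
  · rw [Fintype.card_fin, Fintype.card_fun, ZMod.card, Fintype.card_sum, Fintype.card_fin]
    norm_num

/-- Codes of vectors. -/
noncomputable def encE : Fin 64 ≃ V := Equiv.ofBijective _ enc_bij

theorem encE_apply (c : Fin 64) : encE c = enc c := rfl

/-- The quadratic form on codes. -/
def qN (c : ℕ) : Bool :=
  ((c.testBit 0 && c.testBit 3) ^^ ((c.testBit 1 && c.testBit 4) ^^ (c.testBit 2 && c.testBit 5)))

theorem qf_enc (c : ℕ) : qf (enc c) = if qN c then 1 else 0 := by
  have e1 : ∀ (c : ℕ) (i : Fin 3), enc c (Sum.inl i) = bitf c i.val := fun _ _ => rfl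
  have e2 : ∀ (c : ℕ) (i : Fin 3), enc c (Sum.inr i) = bitf c (3 + i.val) := fun _ _ => rfl
  unfold qf
  simp only [e1, e2, Fin.val_zero, Fin.val_one, Fin.val_two, Nat.add_zero, Nat.reduceAdd]
  have key : ∀ a b : Bool, (if a then (1 : ZMod 2) else 0) * (if b then 1 else 0) =
      if (a && b) then 1 else 0 := by decide
  have key2 : ∀ a b : Bool, (if a then (1 : ZMod 2) else 0) + (if b then 1 else 0) =
      if (a ^^ b) then 1 else 0 := by decide
  unfold bitf qN
  rw [key, key, key, key2, key2, Bool.xor_assoc]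

/-- The sign on codes. -/
def sN (b : Bool) : ℤ := if b then -1 else 1

theorem sgn_ite (b : Bool) : sgn (if b then 1 else 0) = sN b := by
  cases b <;> rfl

theorem sum_sgn_qf : ∑ v : V, sgn (qf v) = 8 := by
  rw [← Equiv.sum_comp encE]
  simp only [encE_apply, qf_enc, sgn_ite]
  decide +kernel

theorem qf_cg (g : S) : qf (cg g) = 0 := by
  have h1 : ∑ v : V, sgn (qf (act g⁻¹ v)) = ∑ v : V, sgn (qf v) := by
    let e : V ≃ V := ⟨act g⁻¹, act g, act_act_inv g, act_inv_act g⟩
    exact Equiv.sum_comp e (fun v => sgn (qf v))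
  have h2 : ∑ v : V, sgn (qf (act g⁻¹ v)) = sgn (qf (cg g)) * ∑ v : V, sgn (qf v) := by
    have h3 : ∀ v : V, sgn (qf (act g⁻¹ v)) = sgn (qf (cg g)) * sgn (qf (v + cg g)) := by
      intro v
      rw [← sgn_add]
      congr 1
      have := cg_spec g v
      rw [qf_add, ← this]
      linear_combination (-qf v - qf (cg g)) * z2_two
    rw [Finset.sum_congr rfl fun v _ => h3 v, ← Finset.mul_sum]
    congr 1
    exact Equiv.sum_comp (Equiv.addRight (cg g)) (fun v => sgn (qf v))
  rw [h2, sum_sgn_qf] at h1
  apply sgn_inj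
  rw [sgn_zero]
  omega

/-- The affine action. -/
noncomputable def aff (g : S) (a : V) : V := act g a + cg g

theorem aff_one (a : V) : aff 1 a = a := by
  rw [aff, act_one, cg_one, add_zero]

theorem aff_mul (g h : S) (a : V) : aff (g * h) a = aff g (aff h a) := by
  rw [aff, aff, aff, act_mul, cg_mul, act_add, add_assoc]

theorem qf_aff (g : S) (a : V) : qf (aff g a) = qf a := by
  rw [aff, qf_add, qf_cg, cg_spec' g a]
  linear_combination (om (act g a) (cg g)) * z2_two

/-- The 28 points. -/
abbrev Z := {a : V // qf a = 1}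

noncomputable instance : MulAction S Z where
  smul g a := ⟨aff g a.1, by rw [qf_aff, a.2]⟩
  one_smul a := Subtype.ext (aff_one a.1)
  mul_smul g h a := Subtype.ext (aff_mul g h a.1)

theorem coe_smul (g : S) (a : Z) : ((g • a : Z) : V) = aff g a.1 := rfl

/-- The sign of the monomial action. -/
noncomputable def eps (g : S) (a : Z) : ℤ := sgn (om ((g • a : Z) : V) (cg g))

theorem eps_mul_self (g : S) (a : Z) : eps g a * eps g a = 1 := sgn_mul_self _

theorem om_aff (g : S) (a b : V) : om (aff g a) (aff g b) =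
    om a b + om (aff g a) (cg g) + om (aff g b) (cg g) := by
  have h1 : om (cg g) (cg g) = 0 := om_self _
  have h2 : om (act g a) (act g b) = om a b := act_om g a b
  have h3 : om (cg g) (act g b) = om (act g b) (cg g) := om_symm _ _
  simp only [aff, om_add_left, om_add_right, h1, h2, h3]
  ring

theorem sgn_om_smul (g : S) (a b : Z) : sgn (om ((g • a : Z) : V) ((g • b : Z) : V)) =
    sgn (om (a : V) b) * eps g a * eps g b := by
  unfold eps
  rw [coe_smul, coe_smul, om_aff, sgn_add, sgn_add]

/-- The sign cocycle. -/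
noncomputable def om2 (g h : S) : ℤ := sgn (om (cg g) (act g (cg h)))

theorem om2_mul_self (g h : S) : om2 g h * om2 g h = 1 := sgn_mul_self _

theorem eps_mul (g h : S) (a : Z) : eps g (h • a) * eps h a = om2 g h * eps (g * h) a := by
  have hA : om (aff h a.1) (cg h) = om (aff g (aff h a.1)) (act g (cg h)) + om (cg g) (act g (cg h)) := by
    have h1 : om (aff g (aff h a.1)) (act g (cg h)) =
        om (aff h a.1) (cg h) + om (cg g) (act g (cg h)) := by
      have h2 : aff g (aff h a.1) = act g (aff h a.1) + cg g := rfl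
      rw [h2, om_add_left, act_om]
    rw [h1, add_assoc, z2_add_self, add_zero]
  show sgn (om (aff g (aff h a.1)) (cg g)) * sgn (om (aff h a.1) (cg h)) =
    sgn (om (cg g) (act g (cg h))) * sgn (om (aff (g * h) a.1) (cg (g * h)))
  rw [hA, aff_mul, cg_mul, om_add_right, ← sgn_add, ← sgn_add]
  congr 1
  ring

theorem eps_one (a : Z) : eps 1 a = 1 := by
  unfold eps
  rw [cg_one, show (0 : V) = (a : V) + a from (add_self _).symm, one_smul, om_add_right, z2_add_self]
  rfl

section Mat

variable (R : Type*) [CommRing R]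

/-- The monomial matrices. -/
noncomputable def M (g : S) : Matrix Z Z R := fun a b => if a = g • b then ((eps g b : ℤ) : R) else 0

/-- The sign matrix. -/
noncomputable def Sm : Matrix Z Z R := fun a b => ((sgn (om (a : V) b) : ℤ) : R)

theorem M_mul (g h : S) : M R g * M R h = ((om2 g h : ℤ) : R) • M R (g * h) := by
  ext a b
  rw [Matrix.mul_apply, Matrix.smul_apply]
  simp only [M]
  rw [Finset.sum_eq_single (h • b)]
  · rw [if_pos rfl, mul_smul]
    by_cases hab : a = g • h • b
    · rw [if_pos hab, if_pos hab, smul_eq_mul, ← Int.cast_mul, eps_mul, Int.cast_mul]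
    · rw [if_neg hab, if_neg hab, zero_mul, smul_zero]
  · intro c _ hc
    rw [if_neg hc, mul_zero]
  · intro hc
    exact absurd (Finset.mem_univ _) hc

theorem M_one : M R 1 = 1 := by
  ext a b
  simp only [M, eps_one, one_smul, Matrix.one_apply, Int.cast_one]

theorem M_mul_Sm (g : S) : M R g * Sm R = Sm R * M R g := by
  ext a b
  rw [Matrix.mul_apply, Matrix.mul_apply]
  simp only [M, Sm]
  obtain ⟨c, rfl⟩ : ∃ c : Z, a = g • c := ⟨g⁻¹ • a, by rw [smul_inv_smul]⟩
  rw [Finset.sum_eq_single c, Finset.sum_eq_single (g • b)]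
  · rw [if_pos rfl, if_pos rfl, sgn_om_smul]
    push_cast
    have : ((eps g b : ℤ) : R) * ((eps g b : ℤ) : R) = 1 := by
      rw [← Int.cast_mul, eps_mul_self, Int.cast_one]
    linear_combination (-((eps g c : ℤ) : R) * ((sgn (om (c : V) b) : ℤ) : R)) * this
  · intro d _ hd
    rw [if_neg hd, mul_zero]
  · intro hc
    exact absurd (Finset.mem_univ _) hc
  · intro d _ hd
    rw [if_neg (fun h => hd (smul_left_cancel g h).symm), zero_mul]
  · intro hc
    exact absurd (Finset.mem_univ _) hc

theorem M_transpose_mul (g : S) : (M R g).transpose * M R g = 1 := by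
  ext a b
  rw [Matrix.mul_apply]
  simp only [M, Matrix.transpose_apply]
  rw [Finset.sum_eq_single (g • b)]
  · rw [if_pos rfl, Matrix.one_apply]
    by_cases hab : a = b
    · rw [hab, if_pos rfl, if_pos rfl, ← Int.cast_mul, eps_mul_self, Int.cast_one]
    · rw [if_neg hab, if_neg (fun h => hab (smul_left_cancel g h).symm), zero_mul]
  · intro c _ hc
    rw [if_neg hc, mul_zero]
  · intro hc
    exact absurd (Finset.mem_univ _) hc

end Mat

end Cfsg.Agent.H689.Sp6
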