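import Cfsg.Agent.H689.Sp6Base

/-!
# The seven-dimensional representation of `Sp₆(2)`

A frame `U` (28 × 7) with `U Uᵀ = 4 - S`, `Uᵀ U = 12`, and the action of some elements on it.
-/

set_option autoImplicit false

open Cfsg.Agent.SporRec.TwoSp6.Sp

namespace Cfsg.Agent.H689.Sp6

attribute [local irreducible] act Cfsg.sympForm

/-- Positions of the entries `1` of the columns of `U`. -/
def posL (i : Fin 7) : ℕ :=
  [6827967812468736, 1149772288, 11338713702400, 9511622204220506112, 13511623516618752,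
    10376293953879146496, 9373116724464855040].getD i.val 0

/-- Positions of the entries `-1` of the columns of `U`. -/
def negL (i : Fin 7) : ℕ :=
  [10159488547946496, 574916608, 88648124992000, 1297115857528553472, 3377905891540992,
    432346184313470976, 1452410879827018240].getD i.val 0

/-- The entries of `U` on codes. -/
def uN (c : ℕ) (i : Fin 7) : ℤ := if (posL i).testBit c then 1 else if (negL i).testBit c then -1 else 0

theorem uN_mul_transpose : ∀ c d : Fin 64, qN c → qN d →
    uN c 0 * uN d 0 + uN c 1 * uN d 1 + uN c 2 * uN d 2 + uN c 3 * uN d 3 + uN c 4 * uN d 4 +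
      uN c 5 * uN d 5 + uN c 6 * uN d 6 = (if c = d then 4 else 0) - sN (fN c d) := by
  decide +kernel

theorem uN_transpose_mul : ∀ i j : Fin 7, (∑ c : Fin 64, if qN c then uN c i * uN c j else 0) =
    if i = j then 12 else 0 := by
  decide +kernel

/-- The code of a vector. -/
noncomputable def code (v : V) : Fin 64 := encE.symm v

theorem enc_code (v : V) : enc (code v) = v := by
  rw [← encE_apply, code, Equiv.apply_symm_apply]

theorem code_enc (c : Fin 64) : code (enc c) = c := by
  rw [← encE_apply, code, Equiv.symm_apply_apply]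

theorem qN_code (a : Z) : qN (code a.1) = true := by
  have h := a.2
  rw [← enc_code a.1, qf_enc] at h
  by_contra hcon
  rw [if_neg hcon] at h
  exact absurd h (by decide)

/-- The frame. -/
noncomputable def U (a : Z) (i : Fin 7) : ℤ := uN (code a.1) i

theorem U_mul_transpose (a b : Z) : ∑ i, U a i * U b i = (if a = b then 4 else 0) - sgn (om (a : V) b) := by
  rw [Fin.sum_univ_seven]
  have h1 : om (a : V) b = if fN (code a.1) (code b.1) then 1 else 0 := by
    rw [← om_enc, enc_code, enc_code]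
  rw [h1, sgn_ite]
  have h2 : (if a = b then (4 : ℤ) else 0) = if code a.1 = code b.1 then 4 else 0 := by
    have : a = b ↔ code a.1 = code b.1 := by
      rw [code, code, encE.symm.injective.eq_iff, Subtype.ext_iff]
    simp only [this]
  rw [h2]
  exact uN_mul_transpose _ _ (qN_code a) (qN_code b)

theorem sum_Z {R : Type*} [AddCommMonoid R] (F : V → R) :
    ∑ a : Z, F a.1 = ∑ c : Fin 64, if qN c then F (enc c) else 0 := by
  have h1 : ∑ a : Z, F a.1 = ∑ v : V, if qf v = 1 then F v else 0 := by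
    rw [← Finset.sum_filter]
    symm
    exact Finset.sum_subtype _ (fun x => by simp) F
  rw [h1, ← Equiv.sum_comp encE]
  refine Finset.sum_congr rfl fun c _ => ?_
  rw [encE_apply, qf_enc]
  by_cases h : qN c
  · rw [if_pos h, if_pos rfl, if_pos h]
  · rw [if_neg h, if_neg h, if_neg (by decide)]

theorem U_transpose_mul (i j : Fin 7) : ∑ a, U a i * U a j = if i = j then 12 else 0 := by
  have := sum_Z (fun v => uN (code v) i * uN (code v) j)
  simp only [code_enc] at this
  rw [← uN_transpose_mul i j, ← this]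
  rfl

theorem card_Z : Fintype.card Z = 28 := by
  have h1 := sum_Z (fun _ => (1 : ℕ))
  rw [Finset.sum_const, smul_eq_mul, mul_one, Finset.card_univ] at h1
  rw [h1]
  decide +kernel

/-- The frame as a complex matrix. -/
noncomputable def Uc : Matrix Z (Fin 7) ℂ := fun a i => ((U a i : ℤ) : ℂ)

theorem Uc_mul_transpose : Uc * Uc.transpose = (4 : ℂ) • 1 - Sm ℂ := by
  ext a b
  rw [Matrix.mul_apply, Matrix.sub_apply, Matrix.smul_apply, Matrix.one_apply]
  simp only [Uc, Sm, Matrix.transpose_apply]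
  have := congrArg (Int.cast : ℤ → ℂ) (U_mul_transpose a b)
  push_cast at this
  rw [this]
  simp only [smul_eq_mul]
  split_ifs <;> ring

theorem Uc_transpose_mul : Uc.transpose * Uc = (12 : ℂ) • 1 := by
  ext i j
  rw [Matrix.mul_apply, Matrix.smul_apply, Matrix.one_apply]
  simp only [Uc, Matrix.transpose_apply]
  have := congrArg (Int.cast : ℤ → ℂ) (U_transpose_mul i j)
  push_cast at this
  rw [this]
  simp only [smul_eq_mul]
  split_ifs <;> ring

/-- The action on the frame. -/
noncomputable def Rm (g : S) : Matrix (Fin 7) (Fin 7) ℂ := (12 : ℂ)⁻¹ • (Uc.transpose * M ℂ g * Uc)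

theorem Uc_mul_Rm (g : S) : Uc * Rm g = M ℂ g * Uc := by
  have h1 : (Uc * Uc.transpose) * M ℂ g = M ℂ g * (Uc * Uc.transpose) := by
    rw [Uc_mul_transpose, sub_mul, mul_sub, M_mul_Sm, smul_mul_assoc, mul_smul_comm, one_mul, mul_one]
  calc Uc * Rm g = (12 : ℂ)⁻¹ • ((Uc * Uc.transpose) * M ℂ g * Uc) := by
        rw [Rm, Matrix.mul_smul, Matrix.mul_assoc Uc.transpose, ← Matrix.mul_assoc Uc,
          Matrix.mul_assoc (Uc * Uc.transpose)]
    _ = (12 : ℂ)⁻¹ • (M ℂ g * (Uc * (Uc.transpose * Uc))) := by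
        rw [h1, Matrix.mul_assoc, Matrix.mul_assoc]
    _ = M ℂ g * Uc := by
        rw [Uc_transpose_mul, Matrix.mul_smul, Matrix.mul_smul, Matrix.mul_one, smul_smul,
          inv_mul_cancel₀ (by norm_num), one_smul]

theorem Rm_mul (g h : S) : Rm g * Rm h = ((om2 g h : ℤ) : ℂ) • Rm (g * h) := by
  calc Rm g * Rm h = (12 : ℂ)⁻¹ • (Uc.transpose * M ℂ g * (Uc * Rm h)) := by
        rw [Rm, Matrix.smul_mul, Matrix.mul_assoc _ Uc]
    _ = (12 : ℂ)⁻¹ • (Uc.transpose * (M ℂ g * M ℂ h) * Uc) := by
        rw [Uc_mul_Rm, ← Matrix.mul_assoc, Matrix.mul_assoc Uc.transpose]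
    _ = _ := by
        rw [M_mul, Matrix.mul_smul, Matrix.smul_mul, smul_comm]
        rfl

theorem Rm_one : Rm 1 = 1 := by
  rw [Rm, M_one, Matrix.mul_one, Uc_transpose_mul, smul_smul, inv_mul_cancel₀ (by norm_num), one_smul]

theorem Rm_transpose_mul (g : S) : (Rm g).transpose * Rm g = 1 := by
  calc (Rm g).transpose * Rm g = (12 : ℂ)⁻¹ • (Uc.transpose * (M ℂ g).transpose * (Uc * Rm g)) := by
        have : (Rm g).transpose = (12 : ℂ)⁻¹ • (Uc.transpose * (M ℂ g).transpose * Uc) := by
          rw [Rm, Matrix.transpose_smul, Matrix.transpose_mul, Matrix.transpose_mul,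
            Matrix.transpose_transpose, Matrix.mul_assoc]
        rw [this, Matrix.smul_mul, Matrix.mul_assoc _ Uc]
    _ = (12 : ℂ)⁻¹ • (Uc.transpose * ((M ℂ g).transpose * M ℂ g) * Uc) := by
        rw [Uc_mul_Rm, ← Matrix.mul_assoc, Matrix.mul_assoc Uc.transpose]
    _ = 1 := by
        rw [M_transpose_mul, Matrix.mul_one, Uc_transpose_mul, smul_smul, inv_mul_cancel₀ (by norm_num),
          one_smul]

/-- The sign. -/
noncomputable def dl (g : S) : ℂ := (Rm g).det

theorem dl_mul_self (g : S) : dl g * dl g = 1 := by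
  have := congrArg Matrix.det (Rm_transpose_mul g)
  rwa [Matrix.det_mul, Matrix.det_transpose, Matrix.det_one] at this

theorem om2_cast_mul_self (g h : S) : ((om2 g h : ℤ) : ℂ) * ((om2 g h : ℤ) : ℂ) = 1 := by
  rw [← Int.cast_mul, om2_mul_self, Int.cast_one]

theorem dl_mul (g h : S) : dl g * dl h = ((om2 g h : ℤ) : ℂ) * dl (g * h) := by
  have := congrArg Matrix.det (Rm_mul g h)
  rw [Matrix.det_mul, Matrix.det_smul, Fintype.card_fin] at this
  rw [dl, dl, this, dl]
  congr 1
  have h2 := om2_cast_mul_self g h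
  calc ((om2 g h : ℤ) : ℂ) ^ 7 = (((om2 g h : ℤ) : ℂ) * ((om2 g h : ℤ) : ℂ)) ^ 3 * ((om2 g h : ℤ) : ℂ) := by
        ring
    _ = _ := by rw [h2, one_pow, one_mul]

theorem dl_one : dl 1 = 1 := by rw [dl, Rm_one, Matrix.det_one]

/-- The monomial representation of degree 28. -/
noncomputable def r28 : S →* Matrix Z Z ℂ where
  toFun g := dl g • M ℂ g
  map_one' := by rw [dl_one, M_one, one_smul]
  map_mul' g h := by
    rw [Matrix.smul_mul, Matrix.mul_smul, M_mul, smul_smul, smul_smul, dl_mul, mul_assoc]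
    congr 1
    linear_combination (-dl (g * h)) * om2_cast_mul_self g h

/-- The representation of degree 7. -/
noncomputable def r7 : S →* Matrix (Fin 7) (Fin 7) ℂ where
  toFun g := dl g • Rm g
  map_one' := by rw [dl_one, Rm_one, one_smul]
  map_mul' g h := by
    rw [Matrix.smul_mul, Matrix.mul_smul, Rm_mul, smul_smul, smul_smul, dl_mul, mul_assoc]
    congr 1
    linear_combination (-dl (g * h)) * om2_cast_mul_self g h

theorem r28_apply (g : S) : r28 g = dl g • M ℂ g := rfl

theorem r7_apply (g : S) : r7 g = dl g • Rm g := rfl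

theorem Uc_mul_r7 (g : S) : Uc * r7 g = r28 g * Uc := by
  rw [r7_apply, r28_apply, Matrix.mul_smul, Matrix.smul_mul, Uc_mul_Rm]

theorem transpose_mul_r28 (g : S) : Uc.transpose * r28 g = r7 g * Uc.transpose := by
  have h1 : (Uc * Uc.transpose) * r28 g = r28 g * (Uc * Uc.transpose) := by
    rw [r28_apply, Uc_mul_transpose, mul_smul_comm, smul_mul_assoc, sub_mul, mul_sub, M_mul_Sm,
      smul_mul_assoc, mul_smul_comm, one_mul, mul_one]
  have h2 : Uc.transpose * ((Uc * Uc.transpose) * r28 g) = (12 : ℂ) • (Uc.transpose * r28 g) := by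
    rw [← Matrix.mul_assoc, ← Matrix.mul_assoc, Uc_transpose_mul, Matrix.smul_mul, Matrix.one_mul,
      Matrix.smul_mul]
  have h3 : Uc.transpose * (r28 g * (Uc * Uc.transpose)) = (12 : ℂ) • (r7 g * Uc.transpose) := by
    rw [← Matrix.mul_assoc (r28 g), ← Uc_mul_r7, ← Matrix.mul_assoc, ← Matrix.mul_assoc,
      Uc_transpose_mul, Matrix.smul_mul, Matrix.one_mul, Matrix.smul_mul]
  have h4 : (12 : ℂ) • (Uc.transpose * r28 g) = (12 : ℂ) • (r7 g * Uc.transpose) := by
    rw [← h2, ← h3, h1]
  have h5 := congrArg (fun X => (12 : ℂ)⁻¹ • X) h4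
  simpa [smul_smul] using h5

/-- A monomial matrix. -/
def mono (p : Fin 7 → Fin 7) (k : Fin 7 → ℤ) : Matrix (Fin 7) (Fin 7) ℂ :=
  fun j i => if j = p i then ((k i : ℤ) : ℂ) else 0

/-- Computation of the action on the frame. -/
theorem Rm_eq (g : S) (p : Fin 7 → Fin 7) (k : Fin 7 → ℤ)
    (h : ∀ (b : Z) (i : Fin 7), eps g b * U b i = U (g • b) (p i) * k i) :
    Rm g = mono p k := by
  have h1 : M ℂ g * Uc = Uc * mono p k := by
    ext a i
    rw [Matrix.mul_apply, Matrix.mul_apply]
    obtain ⟨b, rfl⟩ : ∃ b : Z, a = g • b := ⟨g⁻¹ • a, by rw [smul_inv_smul]⟩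
    simp only [M, Uc, mono]
    rw [Finset.sum_eq_single b, Finset.sum_eq_single (p i)]
    · rw [if_pos rfl, if_pos rfl, ← Int.cast_mul, ← Int.cast_mul, h]
    · intro j _ hj
      rw [if_neg hj, mul_zero]
    · intro hc
      exact absurd (Finset.mem_univ _) hc
    · intro d _ hd
      rw [if_neg (fun h => hd (smul_left_cancel g h).symm), zero_mul]
    · intro hc
      exact absurd (Finset.mem_univ _) hc
  rw [Rm, Matrix.mul_assoc, h1, ← Matrix.mul_assoc, Uc_transpose_mul, Matrix.smul_mul, Matrix.one_mul,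
    smul_smul, inv_mul_cancel₀ (by norm_num), one_smul]

end Cfsg.Agent.H689.Sp6
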